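import Cfsg.Agent.H794.Imc
import Cfsg.Agent.H870.IMLocal
import Cfsg.Agent.H227.IMConst
import Cfsg.Agent.H483.Star
import Cfsg.Agent.H665.NoPQ
import Cfsg.Agent.H852.IMPerm
import Cfsg.Agent.H852.IMRankThree
import Cfsg.Agent.H852.IMLocal
import Cfsg.Agent.H648.Loc.Value_m3
import Cfsg.Agent.Prune
set_option linter.all false

section
prune_inst 0x7f00000000000000000000000000000000000000000000000000000000000000000000000000000000000000000000000000000000000000000000000000000000000000000000000000000000000000003fffffffffffffffffffffffffffbeffbdffffffff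

-- part: H794/ImcTools
section
set_option linter.all false
open scoped Cfsg.Agent.FastGrp

/-!
# Tools for the rows `IMC p S` of S4526 (helper794)

`IMC p S` : some irreducible character of `S` of degree divisible by `p` has a vector fixed by a Sylow
`p`-subgroup of `S`.

* `imc_of_block` : a block all of whose characters have degree divisible by `p` (a block which is not of full
  defect);
* `imc_of_exists_centralChar`, `imc_of_quotients`, `imc_of_RD`, `imc_of_RD'`, `imc_of_local` : the tools of
  `H33/RD.lean` with the conclusion `IMC`;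
* `imc_of_star`, `imc_of_star_block`, `imc_of_star2` : the tools of `H483/Star.lean`;
* `imc_of_card_lt` : a `p`-central `p`-element `x` with `|C(x)| < k(G)`;
* `imc_of_exact` : `|S|_p = p` and `IM p S`.
-/

set_option autoImplicit false

open Cfsg
open scoped ComplexConjugate

namespace Cfsg.Agent.H794.Imc

open Cfsg.Agent.H625.SylConst Cfsg.Agent.Blocks.Local Cfsg.Agent.Blocks.Basic Cfsg.Agent.Blocks

universe u

variable {G : Type u} [Group G] [Finite G] {p : ℕ} [hp : Fact p.Prime] {M : Ideal AlgInt}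

/-- a block which is not of full defect -/
theorem imc_of_block (hM : IsPModular p M) {B : Set (IrrCharacter G)} (hB : IsPBlock M B)
    (h : ∀ χ ∈ B, p ∣ charDegree (χ : G → ℂ)) : IMC p G := by
  obtain ⟨P⟩ : Nonempty (Sylow p G) := inferInstance
  obtain ⟨χ, hχ, hf⟩ := exists_fix hM hB P
  exact ⟨χ, P, h χ hχ, hf⟩

theorem imc_of_exists_centralChar (hM : IsPModular p M) {g : G}
    (hg : p ∣ (Subgroup.centralizer ({g} : Set G)).index)
    (h : ∃ χ : IrrCharacter G, ¬ MemLocalIdeal M (centralChar (χ : G → ℂ) g)) : IMC p G := by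
  obtain ⟨χ, hχ⟩ := h
  exact imc_of_centralChar hM χ hg hχ

/-- Theorem RD -/
theorem imc_of_RD (D : Subgroup G) (hD : IsPGroup p D) (u : G)
    (hu : ¬ p ∣ orderOf u) (hDu : D ≤ Subgroup.centralizer ({u} : Set G))
    (hcard : Nat.card D = p ^ (Nat.card (Subgroup.centralizer ({u} : Set G))).factorization p)
    (hd : p ∣ (Subgroup.centralizer ({u} : Set G)).index)
    (hs : ∀ a b : G, a ∈ Subgroup.centralizer (D : Set G) → b ∈ Subgroup.centralizer (D : Set G) →
      IsConj u a → IsConj u b → (∃ k : ℕ, orderOf (a * b⁻¹) = p ^ k) → a = b) : IMC p G := by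
  obtain ⟨M, hM⟩ := ExistsModular.exists_isPModular hp.out
  exact imc_of_exists_centralChar hM hd (H33.exists_RD hM D hD u hu hDu hcard hs)

/-- Theorem RD, all Sylow subgroups of the centralizer -/
theorem imc_of_RD' (u : G) (hu : ¬ p ∣ orderOf u)
    (hd : p ∣ (Subgroup.centralizer ({u} : Set G)).index)
    (hs : ∀ D : Subgroup G, IsPGroup p D → D ≤ Subgroup.centralizer ({u} : Set G) →
      Nat.card D = p ^ (Nat.card (Subgroup.centralizer ({u} : Set G))).factorization p →
      ∀ a b : G, a ∈ Subgroup.centralizer (D : Set G) → b ∈ Subgroup.centralizer (D : Set G) →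
      IsConj u a → IsConj u b → (∃ k : ℕ, orderOf (a * b⁻¹) = p ^ k) → a = b) : IMC p G := by
  obtain ⟨S⟩ : Nonempty (Sylow p (Subgroup.centralizer ({u} : Set G))) := inferInstance
  have h1 : IsPGroup p ((S : Subgroup _).map (Subgroup.centralizer ({u} : Set G)).subtype) :=
    S.isPGroup'.map _
  have h2 : (S : Subgroup _).map (Subgroup.centralizer ({u} : Set G)).subtype ≤
      Subgroup.centralizer ({u} : Set G) := Subgroup.map_subtype_le _
  have h3 : Nat.card ((S : Subgroup _).map (Subgroup.centralizer ({u} : Set G)).subtype) =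
      p ^ (Nat.card (Subgroup.centralizer ({u} : Set G))).factorization p := by
    rw [Subgroup.card_map_of_injective (Subgroup.subtype_injective _), S.card_eq_multiplicity]
  exact imc_of_RD _ h1 u hu h2 h3 hd (hs _ h1 h2 h3)

/-- **T3**: a `p`-subgroup `D`, not a Sylow subgroup, whose centralizer has a character of defect zero modulo
`Z(D)`, such that all `p`-elements of `N_G(D)` lie in `D C_G(D)`. -/
theorem imc_of_local (D : Subgroup G) (hD : IsPGroup p D) (hidx : p ∣ D.index)
    (θ : IrrCharacter (Subgroup.centralizer (D : Set G)))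
    (hdeg : (Nat.card (Subgroup.centralizer (D : Set G))).factorization p ≤
      (charDegree (θ : Subgroup.centralizer (D : Set G) → ℂ)).factorization p +
      (Nat.card ↥(D ⊓ Subgroup.centralizer (D : Set G))).factorization p)
    (hst : ∀ g : G, g ∈ Subgroup.normalizer (D : Set G) → (∃ k : ℕ, orderOf g = p ^ k) →
      g ∈ D ⊔ Subgroup.centralizer (D : Set G)) : IMC p G := by
  classical
  obtain ⟨M, hM⟩ := ExistsModular.exists_isPModular hp.out
  have : M.IsPrime := isPrime_of_isPModular hM
  set e : Set (IrrCharacter (Subgroup.centralizer (D : Set G))) :=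
    blockOf M (θ : Subgroup.centralizer (D : Set G) → ℂ) with he
  have heB : IsPBlock M e := ⟨θ, rfl⟩
  have hθe : θ ∈ e := fun g => by rw [sub_self]; exact memLocalIdeal_zero
  have hrev : (charDegree (θ : Subgroup.centralizer (D : Set G) → ℂ)).factorization p +
      (Nat.card ↥(D ⊓ Subgroup.centralizer (D : Set G))).factorization p ≤
      (Nat.card (Subgroup.centralizer (D : Set G))).factorization p := by
    obtain ⟨d, ρ, hρ, hχ⟩ := θ.2
    have hZ : D.subgroupOf (Subgroup.centralizer (D : Set G)) ≤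
        Subgroup.center (Subgroup.centralizer (D : Set G)) :=
      Cfsg.Agent.H686.PairCrit.subgroupOf_le_center D
    have hn : (D.subgroupOf (Subgroup.centralizer (D : Set G))).Normal := by
      constructor
      intro x hx g
      have h1 := Subgroup.mem_center_iff.1 (hZ hx) g
      rw [h1, mul_inv_cancel_right]
      exact hx
    have hdvd := Cfsg.Agent.S0169.result ρ (D.subgroupOf (Subgroup.centralizer (D : Set G)))
      (fun a ha b _ => ((Subgroup.mem_center_iff.1 (hZ ha)) b).symm)
    have h2 : charDegree (θ : Subgroup.centralizer (D : Set G) → ℂ) = d := by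
      apply H670.PSing.charDegree_eq_of
      rw [← hχ, Representation.char_one]
      simp
    rw [Module.finrank_fin_fun, ← h2] at hdvd
    have h3 := (Nat.factorization_le_iff_dvd
      (Cfsg.Agent.Blocks.Basic.charDegree_pos θ.2).ne' Subgroup.index_ne_zero_of_finite).2 hdvd p
    have h4 : Nat.card (D.subgroupOf (Subgroup.centralizer (D : Set G))) =
        Nat.card ↥(D ⊓ Subgroup.centralizer (D : Set G)) := by
      have h5 : Nat.card ((D.subgroupOf (Subgroup.centralizer (D : Set G))).map
          (Subgroup.centralizer (D : Set G)).subtype) =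
          Nat.card (D.subgroupOf (Subgroup.centralizer (D : Set G))) :=
        Subgroup.card_map_of_injective (Subgroup.subtype_injective _)
      rw [Subgroup.subgroupOf_map_subtype] at h5
      exact h5.symm
    have h6 := (D.subgroupOf (Subgroup.centralizer (D : Set G))).card_mul_index
    rw [← h6, h4, Nat.factorization_mul Nat.card_pos.ne' Subgroup.index_ne_zero_of_finite,
      Finsupp.add_apply]
    omega
  obtain ⟨B, hB⟩ := Cfsg.Agent.H686.PairCrit.crit_mpr hM (Q := D) (e := e) ⟨hD, heB⟩ hθe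
    (le_antisymm hrev hdeg) (fun g hg _ hk => hst g hg hk)
  have hdef := Cfsg.Agent.H644.isDefectGroup_of_isMaximalBrauerPair hM hB
  have hBb : IsPBlock M B := hB.1.2.1
  refine imc_of_block hM hBb fun χ hχ => ?_
  have h1 := Cfsg.Agent.H592.Defect.le_degree_add p hM hBb hdef hχ
  have h2 := D.card_mul_index
  rw [← h2, Nat.factorization_mul Nat.card_pos.ne' Subgroup.index_ne_zero_of_finite,
    Finsupp.add_apply] at h1
  have h3 : 1 ≤ D.index.factorization p :=
    hp.out.factorization_pos_of_dvd Subgroup.index_ne_zero_of_finite hidx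
  exact (hp.out.dvd_iff_one_le_factorization (charDegree_pos χ.2).ne').2 (by omega)

/-- `|G|_p = p` -/
theorem imc_of_exact (hd : p ∣ Nat.card G) (h2 : ¬ p ^ 2 ∣ Nat.card G) (h : H33.IM p G) : IMC p G := by
  obtain ⟨χ, hχ⟩ := h
  refine IMC.of_defect_zero hd χ ?_
  have h3 : (Nat.card G).factorization p ≤ 1 := by
    by_contra hlt
    push Not at hlt
    exact h2 ((hp.out.pow_dvd_iff_le_factorization Nat.card_pos.ne').2 hlt)
  exact (pow_dvd_pow p h3).trans (by rwa [pow_one])

/-- a character of defect zero -/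
theorem imc_of_hasDZ (hd : p ∣ Nat.card G) (h : H665.NoPQ.HasDZ p G) : IMC p G := by
  obtain ⟨χ, hχ⟩ := h
  refine IMC.of_defect_zero hd χ ?_
  rw [hp.out.pow_dvd_iff_le_factorization (charDegree_pos χ.2).ne', hχ]

end Cfsg.Agent.H794.Imc
end

-- part: H94/IMCPerm
section
set_option linter.all false
open scoped Cfsg.Agent.FastGrp

/-!
# Permutation characters and S4526 (helper94)

Tools for the rows `IMC p G` (some irreducible character of degree divisible by `p` has a vector fixed by a Sylow
`p`-subgroup).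

* `imc_of_nonneg` : `χ` irreducible, `p ∣ χ(1)`, `χ(z) ∈ ℕ` for all `p`-elements `z`;
* `imc_of_perm` : a transitive action on `X`, `p ∤ |X|`, `χ` a constituent of the permutation character;
* `imc_of_perm_sum` : the permutation character is `1 + χ₁ + χ₂`;
* `imc_of_r3`, `imc_of_r3_chk`, `imc_of_index` : rank three, `p ∤ |X|`;
* `imc_of_two` : two-transitive, `p ∣ |X| - 1`;
* `imc_of_four_a`, `imc_of_four_b`, `imc_of_four_two` : four-transitive;
* `imc_of_even_rank` : `p = 2`, `|X|` odd, even rank;
* `imc_of_cent` : `x` of order `p`, `θ ∈ Irr C(x)`, `p ^ k ∣ θ(1)`, `v_p |C(x)| ≤ k + 1`, `p ^ 2 ∣ |G|`.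
-/

set_option autoImplicit false
set_option linter.unusedSectionVars false

open Cfsg
open scoped ComplexConjugate

namespace Cfsg.Agent.H94.IMCPerm

open Cfsg.Agent.Characters.Core Cfsg.Agent.H625.SylConst Cfsg.Agent.H794.Imc Cfsg.Agent.H852.IMPerm

section four

variable {G : Type*} [Group G] [Fintype G] (X : Type*) [MulAction G X] [Finite X]

theorem four_val [MulAction.IsMultiplyPretransitive G X 4] (hX : 4 ≤ Nat.card X) :
    (∃ χ : IrrCharacter G, (χ : G → ℂ) 1 = (((Nat.card X - 1) * (Nat.card X - 2) / 2 : ℕ) : ℂ) ∧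
      ∀ g, (χ : G → ℂ) g = ((fx X g : ℂ) * fx X g - 3 * fx X g + 2 - nn X g) / 2) ∧
    (∃ χ : IrrCharacter G, (χ : G → ℂ) 1 = ((Nat.card X * (Nat.card X - 3) / 2 : ℕ) : ℂ) ∧
      ∀ g, (χ : G → ℂ) g = ((fx X g : ℂ) * fx X g - 3 * fx X g + nn X g) / 2) := by
  have h3 : MulAction.IsMultiplyPretransitive G X 3 := MulAction.isMultiplyPretransitive_of_le (n := 4) (by norm_num) hX
  have h2 : MulAction.IsMultiplyPretransitive G X 2 := MulAction.isMultiplyPretransitive_of_le (n := 4) (by norm_num) hX
  have h1 : MulAction.IsMultiplyPretransitive G X 1 := MulAction.isMultiplyPretransitive_of_le (n := 4) (by norm_num) hX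
  have ht : MulAction.IsPretransitive G X := by
    rw [← MulAction.is_one_pretransitive_iff]
    exact h1
  set P : G → ℂ := fun g => (fx X g : ℂ) with hP
  set T : G → ℂ := fun g => (nn X g : ℂ) with hT
  have a1 : avg (fun g => P g) = 1 := by
    have := avg_desc (G := G) X 1 (by omega)
    simpa using this
  have a2 : avg (fun g => P g * (P g - 1)) = 1 := by
    have := avg_desc (G := G) X 2 (by omega)
    simp only [cast_desc_two] at this
    exact this
  have a3 : avg (fun g => P g * (P g - 1) * (P g - 2)) = 1 := by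
    have := avg_desc (G := G) X 3 (by omega)
    simp only [cast_desc_three] at this
    exact this
  have a4 : avg (fun g => P g * (P g - 1) * (P g - 2) * (P g - 3)) = 1 := by
    have := avg_desc (G := G) X 4 (by omega)
    simp only [cast_desc_four] at this
    exact this
  have b1 : avg (fun g => T g) = 1 := avg_nn X (by omega)
  have b2 : avg (fun g => P g * T g) = 1 := avg_fx_nn X (by omega)
  have a0 : avg (fun _ : G => (1 : ℂ)) = 1 := avg_one
  have hχ : IsIrrCharacter G (fun g => P g - 1) := (Cfsg.Agent.S0157.result X (by omega)).2 h2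
  have hsq : ∀ g, P (g * g) = P g + T g := by
    intro g
    rw [hP, hT]
    simp only [fx_sq, Nat.cast_add]
  set A : G → ℂ := fun g => (P g * P g - 3 * P g + 2 - T g) / 2 with hA
  set S : G → ℂ := fun g => (P g * P g - P g + T g) / 2 with hS
  have hAc : IsCharacter G A := by
    have := Cfsg.Agent.PermChar.SymAlt.isCharacter_altSq (isIrr_isCharacter hχ)
    convert this using 1
    funext g
    rw [hA]
    simp only [hsq]
    ring
  have hSc : IsCharacter G S := by
    have := Cfsg.Agent.PermChar.SymAlt.isCharacter_symSq (isIrr_isCharacter hχ)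
    convert this using 1
    funext g
    rw [hS]
    simp only [hsq]
    ring
  have hPr : ∀ g, conj (P g) = P g := fun g => Complex.conj_natCast _
  have hTr : ∀ g, conj (T g) = T g := fun g => Complex.conj_natCast _
  have hAr : ∀ g, conj (A g) = A g := by
    intro g
    rw [hA]
    simp only [map_div₀, map_sub, map_add, map_mul, hPr, hTr, map_ofNat]
  have hSr : ∀ g, conj (S g) = S g := by
    intro g
    rw [hS]
    simp only [map_div₀, map_sub, map_add, map_mul, hPr, hTr, map_ofNat]
  -- averages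
  have cA : avg (fun g => A g) = 0 := by
    have h : (fun g => A g) = fun g => (1 / 2 : ℂ) * (P g * (P g - 1) - 2 * P g + 2 * 1 - T g) := by
      funext g
      rw [hA]
      ring
    rw [h, avg_mul, avg_sub, avg_add, avg_sub, avg_mul, avg_mul, a0, a1, a2, b1]
    norm_num
  have cAP : avg (fun g => A g * P g) = 0 := by
    have h : (fun g => A g * P g) = fun g => (1 / 2 : ℂ) * (P g * (P g - 1) * (P g - 2) - P g * T g) := by
      funext g
      rw [hA]
      ring
    rw [h, avg_mul, avg_sub, a3, b2]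
    norm_num
  have cN : avg (fun g => (P g * P g - 3 * P g + 1) * (P g * P g - 3 * P g + 1)) = 2 := by
    have h : (fun g => (P g * P g - 3 * P g + 1) * (P g * P g - 3 * P g + 1)) =
        fun g => P g * (P g - 1) * (P g - 2) * (P g - 3) + 1 := by
      funext g
      ring
    rw [h, avg_add, a0, a4]
    norm_num
  set B : G → ℂ := S - P with hB
  have hBr : ∀ g, conj (B g) = B g := by
    intro g
    rw [hB, Pi.sub_apply, map_sub, hSr, hPr]
  have hAB : classInner (A + B) (A + B) = 2 := by
    rw [inner_eq_avg _ _ (fun g => by rw [Pi.add_apply, map_add, hAr, hBr])]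
    rw [← cN]
    congr 1
    funext g
    have h : A g + B g = P g * P g - 3 * P g + 1 := by
      rw [hB, hA, hS, Pi.sub_apply]
      ring
    rw [Pi.add_apply, h]
  have hAP : classInner A P = 0 := by
    rw [inner_eq_avg _ _ hPr]
    exact cAP
  obtain ⟨a, ha⟩ := classInner_isNat hAc hAc
  obtain ⟨c, hc⟩ := classInner_isNat hAc hSc
  have hABc : classInner A B = c := by
    rw [hB, classInner_sub_right, hAP, hc, sub_zero]
  have hBAc : classInner B A = c := by
    rw [← classInner_conj_symm, hABc, Complex.conj_natCast]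
  have hBB : classInner B B = 2 - a - 2 * c := by
    rw [classInner_add_left, classInner_add_right, classInner_add_right, ha, hABc, hBAc] at hAB
    linear_combination hAB
  -- degrees
  have hP1 : P 1 = (Nat.card X : ℂ) := by
    show ((fx X (1 : G) : ℕ) : ℂ) = _
    rw [fx, MulAction.fixedBy_one_eq_univ, Nat.card_univ]
  have hT1 : T 1 = 0 := by
    have h4 := hsq 1
    rw [one_mul] at h4
    linear_combination -h4
  have hA1 : A 1 = (((Nat.card X - 1) * (Nat.card X - 2) / 2 : ℕ) : ℂ) := by
    have h4 : (Nat.card X - 1) * (Nat.card X - 2) / 2 * 2 = (Nat.card X - 1) * (Nat.card X - 2) := by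
      refine Nat.div_mul_cancel (even_iff_two_dvd.1 ?_)
      obtain ⟨m, hm⟩ : ∃ m, Nat.card X = m + 2 := ⟨Nat.card X - 2, by omega⟩
      rw [hm, show m + 2 - 1 = m + 1 by omega, show m + 2 - 2 = m by omega, mul_comm]
      exact Nat.even_mul_succ_self m
    have h5 : ((((Nat.card X - 1) * (Nat.card X - 2) / 2 : ℕ) : ℂ)) * 2 = ((Nat.card X : ℂ) - 1) * ((Nat.card X : ℂ) - 2) := by
      have h6 : ((((Nat.card X - 1) * (Nat.card X - 2) / 2 * 2 : ℕ) : ℂ)) = (((Nat.card X - 1) * (Nat.card X - 2) : ℕ) : ℂ) := by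
        rw [h4]
      rw [Nat.cast_mul, Nat.cast_mul, Nat.cast_sub (by omega), Nat.cast_sub (by omega)] at h6
      exact_mod_cast h6
    have h6 : A 1 = (P 1 * P 1 - 3 * P 1 + 2 - T 1) / 2 := rfl
    rw [h6, hP1, hT1]
    linear_combination (-1 / 2 : ℂ) * h5
  have hB1 : B 1 = ((Nat.card X * (Nat.card X - 3) / 2 : ℕ) : ℂ) := by
    have h4 : Nat.card X * (Nat.card X - 3) / 2 * 2 = Nat.card X * (Nat.card X - 3) := by
      refine Nat.div_mul_cancel (even_iff_two_dvd.1 ?_)
      obtain ⟨m, hm⟩ : ∃ m, Nat.card X = m + 3 := ⟨Nat.card X - 3, by omega⟩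
      rw [hm, show m + 3 - 3 = m by omega, Nat.even_mul]
      rcases Nat.even_or_odd m with h | h
      · exact Or.inr h
      · exact Or.inl (h.add_odd (by decide))
    have h5 : (((Nat.card X * (Nat.card X - 3) / 2 : ℕ) : ℂ)) * 2 = (Nat.card X : ℂ) * ((Nat.card X : ℂ) - 3) := by
      have h6 : (((Nat.card X * (Nat.card X - 3) / 2 * 2 : ℕ) : ℂ)) = ((Nat.card X * (Nat.card X - 3) : ℕ) : ℂ) := by
        rw [h4]
      rw [Nat.cast_mul, Nat.cast_mul, Nat.cast_sub (by omega)] at h6
      exact_mod_cast h6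
    have h6 : B 1 = (P 1 * P 1 - P 1 + T 1) / 2 - P 1 := rfl
    rw [h6, hP1, hT1]
    linear_combination (-1 / 2 : ℂ) * h5
  have hA0 : A 1 ≠ 0 := by
    rw [hA1]
    have h4 : 1 ≤ (Nat.card X - 1) * (Nat.card X - 2) / 2 := by
      have h5 : 3 * 2 ≤ (Nat.card X - 1) * (Nat.card X - 2) := Nat.mul_le_mul (by omega) (by omega)
      omega
    exact_mod_cast (by omega : (Nat.card X - 1) * (Nat.card X - 2) / 2 ≠ 0)
  have hB0n : 1 ≤ Nat.card X * (Nat.card X - 3) / 2 := by
    have h5 : 4 * 1 ≤ Nat.card X * (Nat.card X - 3) := Nat.mul_le_mul (by omega) (by omega)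
    omega
  have hB0 : B 1 ≠ 0 := by
    rw [hB1]
    exact_mod_cast (by omega : Nat.card X * (Nat.card X - 3) / 2 ≠ 0)
  have ha0 : a ≠ 0 := by
    rintro rfl
    have h4 := classInner_self_eq_zero (φ := A) (by rw [ha]; simp)
    exact hA0 (by rw [h4]; rfl)
  have hpos : 0 < (2 : ℝ) - a - 2 * c := by
    have h4 := classInner_self_eq_ofReal B
    rw [hBB] at h4
    have h5 : (2 : ℝ) - a - 2 * c = (Nat.card G : ℝ)⁻¹ * ∑ g : G, Complex.normSq (B g) := by exact_mod_cast h4
    rw [h5]
    refine mul_pos (inv_pos.2 (by exact_mod_cast Nat.card_pos)) ?_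
    refine Finset.sum_pos' (fun g _ => Complex.normSq_nonneg _) ⟨1, Finset.mem_univ _, ?_⟩
    exact Complex.normSq_pos.2 hB0
  have hac : a + 2 * c < 2 := by
    have : ((a + 2 * c : ℕ) : ℝ) < (2 : ℕ) := by push_cast; linarith
    exact_mod_cast this
  have ha1 : a = 1 := by omega
  have hc0 : c = 0 := by omega
  have hAi : IsIrrCharacter G A := isIrr_of_classInner_self hAc (by rw [ha, ha1]; simp)
  have hBn : classInner B B = 1 := by
    rw [hBB, ha1, hc0]
    norm_num
  have hBi : IsIrrCharacter G B := by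
    rcases isIrr_of_generalized ⟨S, P, hSc, Cfsg.Agent.S0157.isCharacter_fixedBy X, rfl⟩ hBn with h | h
    · exact h
    · exfalso
      obtain ⟨m, hm, hm1⟩ := isIrr_apply_one h
      have h4 : (((m + Nat.card X * (Nat.card X - 3) / 2 : ℕ)) : ℂ) = ((0 : ℕ) : ℂ) := by
        rw [Nat.cast_add, ← hm1, ← hB1, Pi.neg_apply, Nat.cast_zero]
        exact neg_add_cancel (B 1)
      have h5 : m + Nat.card X * (Nat.card X - 3) / 2 = 0 := by exact_mod_cast h4
      omega
  refine ⟨⟨⟨A, hAi⟩, hA1, fun g => rfl⟩, ⟨⟨B, hBi⟩, hB1, fun g => ?_⟩⟩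
  show (P g * P g - P g + T g) / 2 - P g = (P g * P g - 3 * P g + T g) / 2
  ring


end four

section basic

universe u

variable {G : Type u} [Group G] [Finite G] {p : ℕ} [hp : Fact p.Prime]

/-- nonnegative values at the `p`-elements -/
theorem imc_of_nonneg {χ : G → ℂ} (hχ : IsIrrCharacter G χ) (hd : p ∣ charDegree χ)
    (hv : ∀ g : G, (∃ k : ℕ, orderOf g = p ^ k) → ∃ k : ℕ, χ g = k) : IMC p G := by
  classical
  obtain ⟨P⟩ : Nonempty (Sylow p G) := inferInstance
  have := Fintype.ofFinite (P : Subgroup G)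
  obtain ⟨d, hd0, hd1⟩ := isIrr_apply_one hχ
  refine ⟨⟨χ, hχ⟩, P, hd, ?_⟩
  rw [fix_iff]
  have h1 : ∀ z : P, ∃ k : ℕ, χ (z : G) = k := by
    intro z
    apply hv
    obtain ⟨k, hk⟩ := IsPGroup.iff_orderOf.1 P.isPGroup' z
    exact ⟨k, by rw [Subgroup.orderOf_coe, hk]⟩
  choose f hf using h1
  have h2 : ∑ z : P, χ (z : G) = ((∑ z : P, f z : ℕ) : ℂ) := by
    rw [Nat.cast_sum]
    exact Finset.sum_congr rfl fun z _ => hf z
  show ∑ z : P, χ (z : G) ≠ 0
  rw [h2]
  have h3 : f 1 = d := by
    have := hf 1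
    rw [OneMemClass.coe_one, hd1] at this
    exact_mod_cast this.symm
  have h4 : f 1 ≤ ∑ z : P, f z := Finset.single_le_sum (fun z _ => Nat.zero_le _) (Finset.mem_univ 1)
  have h5 : ∑ z : P, f z ≠ 0 := by omega
  exact_mod_cast h5

/-- `T3` for a subgroup of order `p` -/
theorem imc_of_cent (x : G) (hx : orderOf x = p) (θ : IrrCharacter (Subgroup.centralizer ({x} : Set G)))
    {k : ℕ} (hθ : p ^ k ∣ charDegree (θ : Subgroup.centralizer ({x} : Set G) → ℂ))
    (hc : (Nat.card (Subgroup.centralizer ({x} : Set G))).factorization p ≤ k + 1) (hG : p ^ 2 ∣ Nat.card G) :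
    IMC p G := by
  have hcent : Subgroup.centralizer ((Subgroup.zpowers x : Subgroup G) : Set G) = Subgroup.centralizer {x} := by
    rw [Subgroup.zpowers_eq_closure, Subgroup.centralizer_closure]
  have hD : Nat.card (Subgroup.zpowers x) = p := by rw [Nat.card_zpowers, hx]
  revert θ
  rw [← hcent] at hc ⊢
  intro θ hθ
  have hle : Subgroup.zpowers x ≤ Subgroup.centralizer ((Subgroup.zpowers x : Subgroup G) : Set G) := by
    rw [hcent, Subgroup.zpowers_le, Subgroup.mem_centralizer_singleton_iff]
  refine imc_of_local (Subgroup.zpowers x) (IsPGroup.of_card (n := 1) (by rw [hD, pow_one])) ?_ θ ?_ ?_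
  · have h1 := (Subgroup.zpowers x).card_mul_index
    rw [hD] at h1
    rw [← h1, pow_two] at hG
    exact (Nat.mul_dvd_mul_iff_left hp.out.pos).1 hG
  · rw [inf_eq_left.2 hle, hD, hp.out.factorization_self]
    have h0 := (Cfsg.Agent.Blocks.Basic.charDegree_pos θ.2).ne'
    have h1 := (hp.out.pow_dvd_iff_le_factorization h0).1 hθ
    exact hc.trans (Nat.add_le_add_right h1 1)
  · intro g hg hk
    refine Subgroup.mem_sup_right ?_
    rw [hcent, Subgroup.mem_centralizer_singleton_iff]
    obtain ⟨k, hk⟩ := hk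
    have h1 : g * x * g⁻¹ ∈ Subgroup.zpowers x :=
      (Subgroup.mem_normalizer_iff.1 hg x).1 (Subgroup.mem_zpowers x)
    exact mul_inv_eq_iff_eq_mul.1 (Cfsg.Agent.H852.IMLocal.mem_cent_of_normalizer hx hg ⟨k, hk⟩)

variable {X : Type*} [MulAction G X]

/-- the fixed points of a `p`-element, modulo `p` -/
theorem fx_modEq [Finite X] {g : G} (hg : ∃ k : ℕ, orderOf g = p ^ k) : fx X g ≡ Nat.card X [MOD p] := by
  obtain ⟨k, hk⟩ := hg
  have h1 : IsPGroup p (Subgroup.zpowers g) := IsPGroup.of_card (n := k) (by rw [Nat.card_zpowers, hk])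
  have h2 := h1.card_modEq_card_fixedPoints X
  have h3 : MulAction.fixedPoints (Subgroup.zpowers g) X = MulAction.fixedBy X g := by
    ext x
    rw [MulAction.mem_fixedPoints, MulAction.mem_fixedBy]
    constructor
    · intro h
      exact h ⟨g, Subgroup.mem_zpowers g⟩
    · rintro h ⟨y, hy⟩
      obtain ⟨i, rfl⟩ := Subgroup.mem_zpowers_iff.1 hy
      have h4 : g ∈ MulAction.stabilizer G x := h
      exact Subgroup.zpow_mem _ h4 i
  rw [h3] at h2
  exact h2.symm

/-- the value `1 + χ` -/
theorem imc_of_two [Finite X] (h : MulAction.IsMultiplyPretransitive G X 2) (hX : 2 ≤ Nat.card X)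
    (hp' : p ∣ Nat.card X - 1) : IMC p G := by
  have h1 : MulAction.IsMultiplyPretransitive G X 1 :=
    MulAction.isMultiplyPretransitive_of_le (n := 2) (by norm_num) hX
  have ht : MulAction.IsPretransitive G X := by
    rw [← MulAction.is_one_pretransitive_iff]
    exact h1
  have hχ := (Cfsg.Agent.S0157.result (G := G) X hX).2 h
  refine imc_of_nonneg hχ ?_ ?_
  · have h3 : Nat.card (MulAction.fixedBy X (1 : G)) = Nat.card X := by
      rw [MulAction.fixedBy_one_eq_univ, Nat.card_univ]
    have h4 : charDegree (fun g : G => (Nat.card (MulAction.fixedBy X g) : ℂ) - 1) = Nat.card X - 1 := by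
      apply H670.PSing.charDegree_eq_of
      simp only [h3]
      rw [Nat.cast_sub (by omega), Nat.cast_one]
    rw [h4]
    exact hp'
  · intro g hg
    have h5 := fx_modEq (X := X) hg
    have h6 : fx X g ≠ 0 := by
      intro h0
      rw [h0] at h5
      have h7 : p ∣ Nat.card X := (Nat.modEq_zero_iff_dvd).1 h5.symm
      have h8 : p ∣ 1 := by
        have := Nat.dvd_sub h7 hp'
        rwa [show Nat.card X - (Nat.card X - 1) = 1 by omega] at this
      exact hp.out.one_lt.ne' (Nat.dvd_one.1 h8)
    refine ⟨fx X g - 1, ?_⟩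
    show (fx X g : ℂ) - 1 = _
    rw [Nat.cast_sub (by omega), Nat.cast_one]

end basic

section perm

universe u

variable {G : Type u} [Group G] [Finite G] {p : ℕ} [hp : Fact p.Prime] {X : Type*} [MulAction G X]

/-- Frobenius reciprocity for a transitive permutation character. -/
theorem sum_perm [Fintype G] [Finite X] [MulAction.IsPretransitive G X] (x : X)
    [Fintype (MulAction.stabilizer G x)] {χ : G → ℂ} (hχ : IsClassFunction G χ) :
    ∑ g : G, (fx X g : ℂ) * χ g = Nat.card X * ∑ z : MulAction.stabilizer G x, χ (z : G) := by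
  classical
  have := Fintype.ofFinite X
  have h1 : ∀ g : G, (fx X g : ℂ) * χ g = ∑ y : X, if g • y = y then χ g else 0 := by
    intro g
    rw [← Finset.sum_filter, Finset.sum_const, nsmul_eq_mul, fx]
    congr 2
    rw [Nat.card_eq_fintype_card, Fintype.card_subtype]
    rfl
  simp only [h1]
  rw [Finset.sum_comm]
  have h2 : ∀ y : X, (∑ g : G, if g • y = y then χ g else 0) = ∑ g : G, if g • x = x then χ g else 0 := by
    intro y
    obtain ⟨k, rfl⟩ := MulAction.exists_smul_eq G x y
    refine (Fintype.sum_equiv (MulAut.conj k).toEquiv _ _ fun g => ?_).symm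
    have e1 : ((MulAut.conj k).toEquiv g) • k • x = k • x ↔ g • x = x := by
      show (k * g * k⁻¹) • k • x = k • x ↔ g • x = x
      rw [smul_smul, inv_mul_cancel_right, mul_smul, smul_left_cancel_iff]
    have e2 : χ ((MulAut.conj k).toEquiv g) = χ g := hχ g k
    by_cases h : g • x = x
    · rw [if_pos h, if_pos (e1.2 h), e2]
    · rw [if_neg h, if_neg (fun h' => h (e1.1 h'))]
  rw [Finset.sum_congr rfl fun y _ => h2 y, Finset.sum_const, nsmul_eq_mul, Finset.card_univ,
    ← Nat.card_eq_fintype_card, ← Finset.sum_filter]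
  congr 1
  refine (Finset.sum_bij' (fun g hg => (⟨g, (Finset.mem_filter.1 hg).2⟩ : MulAction.stabilizer G x))
    (fun z _ => (z : G)) (fun _ _ => Finset.mem_univ _)
    (fun z _ => Finset.mem_filter.2 ⟨Finset.mem_univ _, z.2⟩) (fun _ _ => rfl) (fun _ _ => rfl) fun _ _ => rfl)

/-- a constituent of a transitive permutation character of degree prime to `p` -/
theorem imc_of_perm [Fintype G] [Finite X] [MulAction.IsPretransitive G X] (hX : ¬ p ∣ Nat.card X)
    (χ : IrrCharacter G) (hd : p ∣ charDegree (χ : G → ℂ))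
    (h : classInner (fun g => (fx X g : ℂ)) (χ : G → ℂ) ≠ 0) : IMC p G := by
  classical
  have hne : Nonempty X := by
    by_contra hcon
    rw [not_nonempty_iff] at hcon
    rw [Nat.card_of_isEmpty] at hX
    exact hX (dvd_zero p)
  obtain ⟨x⟩ := hne
  have := Fintype.ofFinite (MulAction.stabilizer G x)
  have hidx : (MulAction.stabilizer G x).index = Nat.card X := MulAction.index_stabilizer_of_transitive G x
  refine IMC.of_le (MulAction.stabilizer G x) (by rw [hidx]; exact hX) χ hd ?_
  rw [fix_iff]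
  intro h0
  apply h
  have h1 : classInner (χ : G → ℂ) (fun g => (fx X g : ℂ)) = 0 := by
    rw [classInner_def]
    have h2 : ∑ g : G, (χ : G → ℂ) g * conj ((fx X g : ℕ) : ℂ) = 0 := by
      have h3 := sum_perm (X := X) x (isIrr_isClassFunction χ.2)
      rw [h0, mul_zero] at h3
      rw [← h3]
      refine Finset.sum_congr rfl fun g _ => ?_
      rw [Complex.conj_natCast, mul_comm]
    rw [h2, mul_zero]
  rw [← classInner_conj_symm, h1, map_zero]

/-- the permutation character is `a + χ` -/
theorem imc_of_perm_sum [Fintype G] [Finite X] [MulAction.IsPretransitive G X] (hX : ¬ p ∣ Nat.card X)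
    (χ : IrrCharacter G) (hd : p ∣ charDegree (χ : G → ℂ)) {a : G → ℂ} (ha : IsCharacter G a)
    (h : ∀ g : G, (fx X g : ℂ) = a g + (χ : G → ℂ) g) : IMC p G := by
  refine imc_of_perm hX χ hd ?_
  have e : (fun g => (fx X g : ℂ)) = a + (χ : G → ℂ) := by
    funext g
    rw [h g, Pi.add_apply]
  rw [e, classInner_add_left, classInner_irr_self χ.2]
  obtain ⟨n, hn⟩ := classInner_isNat ha (isIrr_isCharacter χ.2)
  rw [hn]
  exact_mod_cast Nat.succ_ne_zero n

/-- the permutation character is `1 + χ₁ + χ₂` -/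
theorem imc_of_perm_three [Finite X] [MulAction.IsPretransitive G X] (hX : ¬ p ∣ Nat.card X)
    (χ₁ χ₂ : IrrCharacter G) {f g : ℕ} (hf : (χ₁ : G → ℂ) 1 = f) (hg : (χ₂ : G → ℂ) 1 = g) (hd : p ∣ f * g)
    (h : ∀ x : G, (Nat.card (MulAction.fixedBy X x) : ℂ) = 1 + (χ₁ : G → ℂ) x + (χ₂ : G → ℂ) x) : IMC p G := by
  have := Fintype.ofFinite G
  rcases hp.out.dvd_mul.1 hd with h1 | h1
  · refine imc_of_perm_sum hX χ₁ (by rw [H670.PSing.charDegree_eq_of hf]; exact h1)
      (a := 1 + (χ₂ : G → ℂ)) (isCharacter_add isCharacter_one (isIrr_isCharacter χ₂.2)) fun x => ?_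
    show (Nat.card (MulAction.fixedBy X x) : ℂ) = _
    rw [h x, Pi.add_apply, Pi.one_apply]
    ring
  · refine imc_of_perm_sum hX χ₂ (by rw [H670.PSing.charDegree_eq_of hg]; exact h1)
      (a := 1 + (χ₁ : G → ℂ)) (isCharacter_add isCharacter_one (isIrr_isCharacter χ₁.2)) fun x => ?_
    show (Nat.card (MulAction.fixedBy X x) : ℂ) = _
    rw [h x, Pi.add_apply, Pi.one_apply]

open Cfsg.Agent.H690.Spor.RankThree Cfsg.Agent.H852.IMRankThree in
/-- rank three, with the arithmetic check of `H852/IMRankThree` -/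
theorem imc_of_r3_chk {R : X → X → Prop} {k l : ℕ} (h : R3 G X R k l) (hn : ¬ p ∣ 1 + k + l)
    (hodd : Odd (k + l) ∨ ¬ (k + l) / 2 ∣ Nat.card G) (hc : chk k l p = true) : IMC p G := by
  classical
  have hcard := h.cardn
  have hfin : Finite X := by
    by_contra hcon
    rw [not_finite_iff_infinite] at hcon
    rw [Nat.card_eq_zero_of_infinite] at hcard
    omega
  have := Fintype.ofFinite X
  have := h.trans
  obtain ⟨χ₁, χ₂, f, g, D, hf, hg, hx, hfg, hprod, hsq⟩ := h.frame
  have hprod0 : (1 + k + l) * k * l ≠ 0 := by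
    have := h.k0
    have := h.l0
    positivity
  have hne : f ≠ g := by
    rintro rfl
    rcases hodd with h1 | h1
    · rw [← hfg] at h1
      exact (Nat.not_odd_iff_even.2 ⟨f, rfl⟩) h1
    · apply h1
      have h2 : (k + l) / 2 = f := by omega
      have h3 : charDegree (χ₁ : G → ℂ) = f := Cfsg.Agent.Blocks.Basic.charDegree_of_eq hf
      rw [h2, ← h3]
      exact Cfsg.Agent.Blocks.Knorr.charDegree_dvd χ₁.2
  have hf0 : f ≠ 0 := by
    rintro rfl
    rw [zero_mul, zero_mul] at hprod
    exact hprod0 hprod.symm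
  have hg0 : g ≠ 0 := by
    rintro rfl
    rw [mul_zero, zero_mul] at hprod
    exact hprod0 hprod.symm
  refine imc_of_perm_three (X := X) (by rw [hcard]; exact hn) χ₁ χ₂ hf hg ?_ hx
  rcases le_total f g with hle | hle
  · exact chk_spec hc hfg hle hf0 hprod (hsq hne)
  · rw [mul_comm]
    exact chk_spec hc (by omega) hle hg0 (by rw [mul_comm g f]; exact hprod) (hsq hne)

open Cfsg.Agent.H690.Spor.RankThree Cfsg.Agent.H852.IMRankThree in
/-- the cosets of a subgroup of index `1 + k + l`, `p ∤ 1 + k + l`, with suborbits of lengths `k ≠ l` -/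
theorem imc_of_index (H : Subgroup G) {k l : ℕ} (hi : H.index = 1 + k + l)
    (ho : ∃ q₁ q₂ : G ⧸ H, (MulAction.orbit H q₁).ncard = k ∧ (MulAction.orbit H q₂).ncard = l)
    (hk : 1 < k) (hl : 1 < l) (hkl : k ≠ l) (hn : ¬ p ∣ 1 + k + l)
    (hodd : Odd (k + l) ∨ ¬ (k + l) / 2 ∣ Nat.card G) (hc : chk k l p = true) : IMC p G := by
  obtain ⟨q₁, q₂, h1, h2⟩ := ho
  obtain ⟨R, h⟩ := R3.of_index H hi h1 h2 hk hl hkl
  exact imc_of_r3_chk h hn hodd hc

end perm

end Cfsg.Agent.H94.IMCPerm
end

-- part: H94/IMCLoc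
section
set_option linter.all false
open scoped Cfsg.Agent.FastGrp

/-!
# `IMC p G` from a class whose size is divisible by `p` and whose class sum is not nilpotent modulo `p` (helper94)

* `imc_of_nn` : `NN M (cl x)` and `p ∣ |x^G|`;
* `imc_two_of_loc` : the rows `Loc G` of S5009 give `IMC 2 G`.
-/

set_option autoImplicit false

open Cfsg
open scoped ComplexConjugate

namespace Cfsg.Agent.H94.IMCLoc

open Cfsg.Agent.H625.SylConst Cfsg.Agent.H652.Four Cfsg.Agent.H794.Imc Cfsg.Agent.Blocks.LocalRing

universe u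

variable {G : Type u} [Group G] [Finite G] {p : ℕ} [hp : Fact p.Prime] {M : Ideal AlgInt}

/-- a class with size divisible by `p` and class sum not nilpotent modulo `p` -/
theorem imc_of_nn (hM : IsPModular p M) {x : G} (h : NN M (cl x))
    (hd : p ∣ (Subgroup.centralizer ({x} : Set G)).index) : IMC p G := by
  obtain ⟨χ, hχ⟩ := h
  refine imc_of_exists_centralChar hM hd ⟨χ, ?_⟩
  rwa [om_cl χ.2] at hχ

/-- the rows of S5009 for `p = 2` -/
theorem imc_two_of_loc [Fact (Nat.Prime 2)] (h : Loc G) : IMC 2 G := by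
  obtain ⟨x, hx, hN⟩ := h
  obtain ⟨M, hM⟩ := exists_two_modular
  exact imc_of_nn hM (hN M hM) (dvd_trans (by norm_num) hx)

end Cfsg.Agent.H94.IMCLoc
end
end
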