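import Cfsg.Prelude.Def_HallClasses
set_option linter.all false

/-!
# Pronormality of overgroups of Sylow subgroups (helper94)

* `isPronormal_of_sylow` : `S ≤ H`, `S` Sylow in `G`, and for every `n ∈ N_G(S)` the subgroups `H`, `H^n` are conjugate
  in `⟨H, H^n⟩`; then `H` is pronormal;
* `isPronormal_of_normalizer_le` : `S ≤ H` and `N_G(S) ≤ N_G(H)`; then `H` is pronormal;
* `isPronormal_of_selfNorm` : `S ≤ H` and `N_G(S) = S`.
-/

set_option autoImplicit false

namespace Cfsg.Agent.H94.Pronormal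

open Subgroup

variable {G : Type*} [Group G]

theorem map_conj_mul (H : Subgroup G) (a b : G) :
    H.map (MulAut.conj (a * b)).toMonoidHom = (H.map (MulAut.conj b).toMonoidHom).map (MulAut.conj a).toMonoidHom := by
  rw [Subgroup.map_map]
  congr 1
  ext x
  simp [mul_assoc]

theorem map_conj_one (H : Subgroup G) : H.map (MulAut.conj (1 : G)).toMonoidHom = H := by
  ext x
  simp

theorem map_conj_of_mem_normalizer {H : Subgroup G} {n : G} (hn : n ∈ normalizer (H : Set G)) :
    H.map (MulAut.conj n).toMonoidHom = H := by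
  ext x
  simp only [Subgroup.mem_map, MulEquiv.coe_toMonoidHom, MulAut.conj_apply]
  constructor
  · rintro ⟨y, hy, rfl⟩
    exact (Subgroup.mem_normalizer_iff.1 hn y).1 hy
  · intro hx
    refine ⟨n⁻¹ * x * n, ?_, by group⟩
    have := (Subgroup.mem_normalizer_iff.1 hn (n⁻¹ * x * n)).2
    apply this
    have e : n * (n⁻¹ * x * n) * n⁻¹ = x := by group
    rw [e]
    exact hx

theorem map_conj_le {H K : Subgroup G} {k : G} (hk : k ∈ K) (hH : H ≤ K) :
    H.map (MulAut.conj k).toMonoidHom ≤ K := by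
  rintro _ ⟨y, hy, rfl⟩
  exact K.mul_mem (K.mul_mem hk (hH hy)) (K.inv_mem hk)

theorem isPronormal_of_sylow [Finite G] {p : ℕ} [Fact p.Prime] (S : Sylow p G) (H : Subgroup G)
    (hSH : (S : Subgroup G) ≤ H)
    (h : ∀ n ∈ normalizer ((S : Subgroup G) : Set G), ∃ x ∈ H ⊔ H.map (MulAut.conj n).toMonoidHom,
      H.map (MulAut.conj n).toMonoidHom = H.map (MulAut.conj x).toMonoidHom) : Cfsg.IsPronormal H := by
  intro g
  set K := H ⊔ H.map (MulAut.conj g).toMonoidHom with hK
  have h1 : (S : Subgroup G) ≤ K := hSH.trans le_sup_left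
  have h2 : ((g • S : Sylow p G) : Subgroup G) ≤ K := by
    refine le_trans ?_ le_sup_right
    rw [Sylow.coe_subgroup_smul]
    rintro _ ⟨y, hy, rfl⟩
    exact ⟨y, hSH hy, rfl⟩
  obtain ⟨k, hk⟩ := MulAction.exists_smul_eq K ((g • S).subtype h2) (S.subtype h1)
  have hk' : (k : G) • (g • S) = S := by
    rw [Sylow.smul_subtype] at hk
    exact Sylow.subtype_injective hk
  have hn : (k : G) * g ∈ normalizer ((S : Subgroup G) : Set G) := by
    refine Sylow.smul_eq_iff_mem_normalizer.1 ?_
    rw [mul_smul]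
    exact hk'
  obtain ⟨x, hx, e⟩ := h _ hn
  have hxK : x ∈ K := by
    refine (sup_le le_sup_left ?_ : H ⊔ H.map (MulAut.conj ((k : G) * g)).toMonoidHom ≤ K) hx
    rw [map_conj_mul]
    exact map_conj_le k.2 le_sup_right
  refine ⟨(k : G)⁻¹ * x, K.mul_mem (K.inv_mem k.2) hxK, ?_⟩
  rw [map_conj_mul H (k : G)⁻¹ x, ← e, ← map_conj_mul, inv_mul_cancel_left]

theorem isPronormal_of_normalizer_le [Finite G] {p : ℕ} [Fact p.Prime] (S : Sylow p G) (H : Subgroup G)
    (hSH : (S : Subgroup G) ≤ H)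
    (h : normalizer ((S : Subgroup G) : Set G) ≤ normalizer (H : Set G)) : Cfsg.IsPronormal H :=
  isPronormal_of_sylow S H hSH fun n hn =>
    ⟨1, one_mem _, by rw [map_conj_of_mem_normalizer (h hn), map_conj_one]⟩

theorem isPronormal_of_selfNorm [Finite G] {p : ℕ} [Fact p.Prime] (S : Sylow p G) (H : Subgroup G)
    (hSH : (S : Subgroup G) ≤ H)
    (h : normalizer ((S : Subgroup G) : Set G) ≤ (S : Subgroup G)) : Cfsg.IsPronormal H :=
  isPronormal_of_normalizer_le S H hSH ((h.trans hSH).trans Subgroup.le_normalizer)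

/-- a subgroup of index prime to `p` contains a Sylow `p`-subgroup -/
theorem exists_sylow_le [Finite G] {p : ℕ} [Fact p.Prime] (H : Subgroup G) (hH : ¬ p ∣ H.index) :
    ∃ S : Sylow p G, (S : Subgroup G) ≤ H := by
  obtain ⟨Q⟩ : Nonempty (Sylow p H) := inferInstance
  have hQ : IsPGroup p ((Q : Subgroup H).map H.subtype) := Q.isPGroup'.map _
  obtain ⟨S, hS⟩ := hQ.exists_le_sylow
  refine ⟨S, ?_⟩
  have hidx : ¬ p ∣ ((Q : Subgroup H).map H.subtype).index := by
    have e : ((Q : Subgroup H).map H.subtype).index = (Q : Subgroup H).index * H.index := by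
      rw [Subgroup.index_map, Subgroup.ker_subtype, sup_bot_eq, Subgroup.range_subtype]
    rw [e]
    intro hd
    rcases (Nat.Prime.dvd_mul Fact.out).1 hd with h | h
    · exact Q.not_dvd_index h
    · exact hH h
  have : ((Q : Subgroup H).map H.subtype) = S := by
    refine le_antisymm hS ?_
    have h3 := (hQ.toSylow hidx).3 S.isPGroup' (by simpa using hS)
    simpa using h3.le
  rw [← this]
  exact Subgroup.map_subtype_le _

end Cfsg.Agent.H94.Pronormal
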