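import Cfsg.Agent.H94.Syl2Sym
set_option linter.all false

/-!
# The matching attached to a Sylow 2-subgroup of a symmetric group (helper94)

* `IsMatching P p` : `p` is an involution of `Ω` with at most one fixed point and `swap x (p x) ∈ P` for all `x`;
* `exists_matching` : each Sylow 2-subgroup of `Perm Ω` has one;
* `IsMatching.eq_of_swap_mem` : it contains no other transpositions; `IsMatching.comm` : `P` commutes with `p`;
* `sym_selfNorm` : `N(P) = P` for a Sylow 2-subgroup `P` of `Perm Ω`;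
* `norm_of_norm_alt` : if `|Ω| ≥ 6` and `σ` normalises `P ∩ Alt Ω` then `σ` normalises `P`;
* `alt_selfNorm` : if `|Ω| ≥ 6` then a Sylow 2-subgroup of `alternatingGroup Ω` is its own normaliser.
-/

set_option autoImplicit false
set_option linter.unusedSectionVars false
set_option linter.unusedVariables false

namespace Cfsg.Agent.H94.Syl2Sym

open Equiv Subgroup

/-- the partner involution on `Fin n` -/
def partnerFin (n : ℕ) (i : Fin n) : Fin n :=
  if h : i.1 % 2 = 0 then (if h2 : i.1 + 1 < n then ⟨i.1 + 1, h2⟩ else i) else ⟨i.1 - 1, by omega⟩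

theorem partnerFin_partnerFin (n : ℕ) (i : Fin n) : partnerFin n (partnerFin n i) = i := by
  apply Fin.ext
  unfold partnerFin
  split_ifs with h1 h2 h3 h4 h5 h6
  all_goals simp_all
  all_goals omega

theorem partnerFin_fixed (n : ℕ) (i j : Fin n) (hi : partnerFin n i = i) (hj : partnerFin n j = j) : i = j := by
  apply Fin.ext
  have key : ∀ k : Fin n, partnerFin n k = k → k.1 + 1 = n := by
    intro k hk
    have h0 := congrArg Fin.val hk
    have hk2 := k.2
    unfold partnerFin at h0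
    split_ifs at h0 with h1 h2
    · simp at h0
    · omega
    · simp at h0
      omega
  have := key i hi
  have := key j hj
  omega

section

variable {Ω : Type*} [DecidableEq Ω]

/-- `p` is an involution of `Ω` with at most one fixed point, all whose transpositions are in `P` -/
structure IsMatching (P : Subgroup (Perm Ω)) (p : Ω → Ω) : Prop where
  invol : ∀ x, p (p x) = x
  mem : ∀ x, swap x (p x) ∈ P
  fixed : ∀ x y, p x = x → p y = y → x = y

/-- the elementary abelian group of a matching -/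
def matchGroup (p : Ω → Ω) (hp : ∀ x, p (p x) = x) : Subgroup (Perm Ω) where
  carrier := {σ | ∀ x, σ x = x ∨ σ x = p x}
  mul_mem' := by
    intro σ τ hσ hτ x
    rw [Perm.mul_apply]
    rcases hτ x with h | h
    · rw [h]; exact hσ x
    · rw [h]
      rcases hσ (p x) with h' | h'
      · exact Or.inr h'
      · left; rw [h', hp]
  one_mem' := fun x => Or.inl rfl
  inv_mem' := by
    intro σ hσ x
    have h0 : σ (σ⁻¹ x) = x := by simp
    rcases hσ (σ⁻¹ x) with h | h
    · left; rw [h0] at h; exact h.symm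
    · right
      rw [h0] at h
      have h2 := congrArg p h
      rw [hp] at h2
      exact h2.symm

theorem matchGroup_isPGroup (p : Ω → Ω) (hp : ∀ x, p (p x) = x) : IsPGroup 2 (matchGroup p hp) := by
  intro σ
  refine ⟨1, ?_⟩
  apply Subtype.ext
  ext x
  have hσ := σ.2
  change ∀ x, (σ : Perm Ω) x = x ∨ (σ : Perm Ω) x = p x at hσ
  rw [pow_one, pow_two]
  change (σ : Perm Ω) ((σ : Perm Ω) x) = x
  rcases hσ x with h | h
  · rw [h, h]
  · rw [h]
    rcases hσ (p x) with h' | h'
    · rw [← h] at h'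
      have := (σ : Perm Ω).injective h'
      rw [h] at this
      rw [this, h, this]
    · rw [h', hp]

theorem exists_partner [Finite Ω] : ∃ p : Ω → Ω, (∀ x, p (p x) = x) ∧ ∀ x y, p x = x → p y = y → x = y := by
  obtain ⟨n, ⟨e⟩⟩ := Finite.exists_equiv_fin Ω
  refine ⟨fun x => e.symm (partnerFin n (e x)), fun x => ?_, fun x y hx hy => ?_⟩
  · simp [partnerFin_partnerFin]
  · apply e.injective
    apply partnerFin_fixed n
    · simpa using (congrArg e hx)
    · simpa using (congrArg e hy)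

theorem swap_conj (g : Perm Ω) (x y : Ω) : g * swap x y * g⁻¹ = swap (g x) (g y) := by
  rw [Equiv.mul_swap_eq_swap_mul, mul_inv_cancel_right]

/-- every Sylow 2-subgroup has a matching -/
theorem exists_matching [Finite Ω] (P : Sylow 2 (Perm Ω)) : ∃ p : Ω → Ω, IsMatching (P : Subgroup (Perm Ω)) p := by
  obtain ⟨p, hp, hf⟩ := exists_partner (Ω := Ω)
  obtain ⟨P₀, hP₀⟩ := (matchGroup_isPGroup p hp).exists_le_sylow
  obtain ⟨g, hg⟩ := MulAction.exists_smul_eq (Perm Ω) P₀ P
  have hm : ∀ x, swap x (p x) ∈ (P₀ : Subgroup (Perm Ω)) := by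
    intro x
    apply hP₀
    intro y
    by_cases h1 : y = x
    · right; rw [h1]; simp
    · by_cases h2 : y = p x
      · right; rw [h2, hp]; simp
      · left; exact swap_apply_of_ne_of_ne h1 h2
  refine ⟨fun x => g (p (g⁻¹ x)), fun x => ?_, fun x => ?_, fun x y hx hy => ?_⟩
  · simp [hp]
  · have h1 := hm (g⁻¹ x)
    have h2 : g * swap (g⁻¹ x) (p (g⁻¹ x)) * g⁻¹ = swap x (g (p (g⁻¹ x))) := by
      rw [swap_conj]
      simp
    rw [← hg, Sylow.coe_subgroup_smul, ← h2]
    exact ⟨_, h1, rfl⟩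
  · have h1 : p (g⁻¹ x) = g⁻¹ x := by
      apply g.injective
      rw [hx]
      simp
    have h2 : p (g⁻¹ y) = g⁻¹ y := by
      apply g.injective
      rw [hy]
      simp
    exact (g⁻¹).injective (hf _ _ h1 h2)

theorem no_three {P : Subgroup (Perm Ω)} [Fintype Ω] (hP : IsPGroup 2 P) {x y z : Ω} (hxy : x ≠ y) (hxz : x ≠ z) (hyz : y ≠ z)
    (h1 : swap x y ∈ P) (h2 : swap x z ∈ P) : False := by
  have h3 := Equiv.Perm.isThreeCycle_swap_mul_swap_same hxy hxz hyz
  obtain ⟨k, hk⟩ := hP ⟨_, P.mul_mem h1 h2⟩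
  have h4 : (swap x y * swap x z) ^ 2 ^ k = 1 := congrArg Subtype.val hk
  have h5 := orderOf_dvd_of_pow_eq_one h4
  rw [h3.orderOf] at h5
  have := (Nat.Prime.dvd_of_dvd_pow (by norm_num : Nat.Prime 3) h5)
  omega

namespace IsMatching

variable [Fintype Ω] {P : Subgroup (Perm Ω)} {p : Ω → Ω}

theorem inj (hp : IsMatching P p) {x y : Ω} (h : p x = p y) : x = y := by
  rw [← hp.invol x, h, hp.invol]

theorem eq_of_swap_mem (hp : IsMatching P p) (hP : IsPGroup 2 P) {x y : Ω} (hxy : x ≠ y) (h : swap x y ∈ P) :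
    y = p x := by
  by_contra hne
  by_cases hx : p x = x
  · have hy : p y ≠ y := fun hy => hxy (hp.fixed x y hx hy)
    refine no_three hP (x := y) (y := x) (z := p y) hxy.symm hy.symm ?_ ?_ (hp.mem y)
    · intro h'
      have := hp.invol y
      rw [← h', hx] at this
      exact hxy this
    · rw [swap_comm]; exact h
  · exact no_three hP hxy (Ne.symm hx) hne h (hp.mem x)

theorem comm (hp : IsMatching P p) (hP : IsPGroup 2 P) {g : Perm Ω} (hg : g ∈ P) (x : Ω) : g (p x) = p (g x) := by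
  have key : ∀ g ∈ P, ∀ x, p x ≠ x → g (p x) = p (g x) := by
    intro g hg x hx
    apply hp.eq_of_swap_mem hP (fun h => hx (g.injective h).symm)
    rw [← swap_conj]
    exact P.mul_mem (P.mul_mem hg (hp.mem x)) (P.inv_mem hg)
  by_cases hx : p x = x
  · rw [hx]
    by_contra hne
    have h1 := key g⁻¹ (P.inv_mem hg) (g x) (fun h => hne h.symm)
    have h2 : g⁻¹ (g x) = x := by simp
    rw [h2, hx] at h1
    apply hne
    rw [Perm.inv_eq_iff_eq] at h1
    exact h1.symm
  · exact key g hg x hx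

/-- the transpositions of `P` seen in the even part of `P` -/
theorem swap_mem_iff (hp : IsMatching P p) (hP : IsPGroup 2 P) (hc : 6 ≤ Fintype.card Ω) {x y : Ω} (hxy : x ≠ y) :
    swap x y ∈ P ↔ ∃ z w z' w' : Ω, z ≠ w ∧ z' ≠ w' ∧ z ≠ x ∧ z ≠ y ∧ w ≠ x ∧ w ≠ y ∧ z' ≠ x ∧ z' ≠ y ∧ w' ≠ x ∧ w' ≠ y ∧
      ¬ (z = z' ∧ w = w') ∧ ¬ (z = w' ∧ w = z') ∧ swap x y * swap z w ∈ P ∧ swap x y * swap z' w' ∈ P := by
  constructor
  · intro h
    have hyx := hp.eq_of_swap_mem hP hxy h
    have hxy' : x = p y := by rw [hyx, hp.invol]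
    have pick : ∀ s : Finset Ω, s.card ≤ 4 → ∃ z, z ∉ s ∧ p z ≠ z := by
      intro s hs
      have h1 : 1 < (Finset.univ \ s).card := by
        have := Finset.card_sdiff_add_card_inter Finset.univ s
        rw [Finset.univ_inter, Finset.card_univ] at this
        omega
      obtain ⟨a, ha, b, hb, hab⟩ := Finset.one_lt_card.1 h1
      by_cases h2 : p a = a
      · exact ⟨b, by simpa using hb, fun h3 => hab (hp.fixed a b h2 h3)⟩
      · exact ⟨a, by simpa using ha, h2⟩
    obtain ⟨z, hz, hz2⟩ := pick {x, y} (Finset.card_le_two.trans (by norm_num))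
    obtain ⟨z', hz', hz2'⟩ := pick {x, y, z, p z} Finset.card_le_four
    simp only [Finset.mem_insert, Finset.mem_singleton, not_or] at hz hz'
    refine ⟨z, p z, z', p z', hz2.symm, hz2'.symm, hz.1, hz.2, ?_, ?_, hz'.1, hz'.2.1, ?_, ?_, ?_, ?_,
      P.mul_mem h (hp.mem z), P.mul_mem h (hp.mem z')⟩
    · intro h1
      rw [hxy'] at h1
      exact hz.2 (hp.inj h1)
    · intro h1
      rw [hyx] at h1
      exact hz.1 (hp.inj h1)
    · intro h1
      rw [hxy'] at h1
      exact hz'.2.1 (hp.inj h1)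
    · intro h1
      rw [hyx] at h1
      exact hz'.1 (hp.inj h1)
    · rintro ⟨h1, -⟩
      exact hz'.2.2.1 h1.symm
    · rintro ⟨-, h1⟩
      exact hz'.2.2.2 h1.symm
  · rintro ⟨z, w, z', w', hzw, hzw', hzx, hzy, hwx, hwy, hzx', hzy', hwx', hwy', hn1, hn2, h1, h2⟩
    by_contra hnot
    have key : ∀ a b : Ω, a ≠ b → a ≠ x → a ≠ y → b ≠ x → b ≠ y → swap x y * swap a b ∈ P →
        (a = p x ∧ b = p y) ∨ (b = p x ∧ a = p y) := by
      intro a b hab hax hay hbx hby hm
      have gx : (swap x y * swap a b) x = y := by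
        rw [Perm.mul_apply, swap_apply_of_ne_of_ne hax.symm hbx.symm, swap_apply_left]
      have h3 : (swap x y * swap a b) (p x) = p y := by
        rw [hp.comm hP hm, gx]
      have hpx : p x ≠ x := by
        intro h4
        rw [h4, gx] at h3
        exact hxy (hp.fixed x y h4 h3.symm)
      have hpxy : p x ≠ y := by
        intro h4
        apply hnot
        rw [← h4]
        exact hp.mem x
      by_cases h4 : p x = a
      · left
        refine ⟨h4.symm, ?_⟩
        rw [h4, Perm.mul_apply, swap_apply_left, swap_apply_of_ne_of_ne hbx hby] at h3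
        exact h3
      · by_cases h5 : p x = b
        · right
          refine ⟨h5.symm, ?_⟩
          rw [h5, Perm.mul_apply, swap_apply_right, swap_apply_of_ne_of_ne hax hay] at h3
          exact h3
        · exfalso
          rw [Perm.mul_apply, swap_apply_of_ne_of_ne h4 h5, swap_apply_of_ne_of_ne hpx hpxy] at h3
          exact hxy (hp.inj h3)
    rcases key z w hzw hzx hzy hwx hwy h1 with ⟨a1, a2⟩ | ⟨a1, a2⟩ <;>
      rcases key z' w' hzw' hzx' hzy' hwx' hwy' h2 with ⟨b1, b2⟩ | ⟨b1, b2⟩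
    · exact hn1 ⟨a1.trans b1.symm, a2.trans b2.symm⟩
    · exact hn2 ⟨a1.trans b1.symm, a2.trans b2.symm⟩
    · exact hn2 ⟨a2.trans b2.symm, a1.trans b1.symm⟩
    · exact hn1 ⟨a2.trans b2.symm, a1.trans b1.symm⟩

end IsMatching

/-- **a Sylow 2-subgroup of a symmetric group is its own normaliser** -/
theorem sym_selfNorm [Finite Ω] (P : Sylow 2 (Perm Ω)) :
    normalizer ((P : Subgroup (Perm Ω)) : Set (Perm Ω)) ≤ (P : Subgroup (Perm Ω)) := by
  intro σ hσ
  have hpos := orderOf_pos σ
  obtain ⟨a, m, hm, ho⟩ := Nat.exists_eq_two_pow_mul_odd hpos.ne'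
  have h1 : Odd (orderOf (σ ^ 2 ^ a)) := by
    rw [orderOf_pow, ho, Nat.gcd_eq_right (Dvd.intro _ rfl), Nat.mul_div_cancel_left _ (by positivity)]
    exact hm
  have h2 : σ ^ 2 ^ a = 1 := eq_one_of_normalizer P h1 (pow_mem hσ _)
  have key : ∀ k : ℕ, σ ^ 2 ^ k ∈ (P : Subgroup (Perm Ω)) → σ ∈ (P : Subgroup (Perm Ω)) := by
    intro k
    induction k with
    | zero => intro h; simpa using h
    | succ k ih =>
      intro h
      apply ih
      refine mem_of_sq P le_rfl ?_ ?_
      · intro g hg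
        exact ((mem_normalizer_iff.1 (pow_mem hσ (2 ^ k))) g).1 hg
      · rw [← pow_add, ← two_mul, ← pow_succ']
        exact h
  exact key a (by rw [h2]; exact one_mem _)

/-- if `|Ω| ≥ 6`, a permutation which normalises `P ∩ Alt Ω` normalises `P` -/
theorem norm_of_norm_alt [Fintype Ω] (hc : 6 ≤ Fintype.card Ω) (P : Sylow 2 (Perm Ω)) {σ : Perm Ω}
    (h : ∀ g ∈ (P : Subgroup (Perm Ω)), g ∈ alternatingGroup Ω → σ * g * σ⁻¹ ∈ (P : Subgroup (Perm Ω)))
    (h' : ∀ g ∈ (P : Subgroup (Perm Ω)), g ∈ alternatingGroup Ω → σ⁻¹ * g * σ ∈ (P : Subgroup (Perm Ω))) :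
    σ ∈ (P : Subgroup (Perm Ω)) := by
  obtain ⟨p, hp⟩ := exists_matching P
  have hP := P.isPGroup'
  have hsw : ∀ x y : Ω, x ≠ y → swap x y ∈ (P : Subgroup (Perm Ω)) → swap (σ x) (σ y) ∈ (P : Subgroup (Perm Ω)) := by
    intro x y hxy hm
    rw [hp.swap_mem_iff hP hc (fun h => hxy (σ.injective h))]
    obtain ⟨z, w, z', w', hzw, hzw', hzx, hzy, hwx, hwy, hzx', hzy', hwx', hwy', hn1, hn2, h1, h2⟩ :=
      (hp.swap_mem_iff hP hc hxy).1 hm
    have conj : ∀ a b : Ω, a ≠ b → swap x y * swap a b ∈ (P : Subgroup (Perm Ω)) →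
        swap (σ x) (σ y) * swap (σ a) (σ b) ∈ (P : Subgroup (Perm Ω)) := by
      intro a b hab h3
      have h4 := h _ h3 (by
        rw [Perm.mem_alternatingGroup, Perm.sign_mul, Perm.sign_swap hxy, Perm.sign_swap hab]
        norm_num)
      rw [← swap_conj σ x y, ← swap_conj σ a b]
      convert h4 using 1
      group
    refine ⟨σ z, σ w, σ z', σ w', fun e => hzw (σ.injective e), fun e => hzw' (σ.injective e),
      fun e => hzx (σ.injective e), fun e => hzy (σ.injective e), fun e => hwx (σ.injective e),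
      fun e => hwy (σ.injective e), fun e => hzx' (σ.injective e), fun e => hzy' (σ.injective e),
      fun e => hwx' (σ.injective e), fun e => hwy' (σ.injective e),
      fun e => hn1 ⟨σ.injective e.1, σ.injective e.2⟩, fun e => hn2 ⟨σ.injective e.1, σ.injective e.2⟩,
      conj z w hzw h1, conj z' w' hzw' h2⟩
  -- a transposition in `P`
  obtain ⟨s, hs1, hs2, hs3⟩ : ∃ s ∈ (P : Subgroup (Perm Ω)), Perm.sign s = -1 ∧
      σ * s * σ⁻¹ ∈ (P : Subgroup (Perm Ω)) := by
    obtain ⟨a, b, hab⟩ := Fintype.exists_pair_of_one_lt_card (α := Ω) (by omega)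
    have : ∃ x, p x ≠ x := by
      by_contra hno
      push Not at hno
      exact hab (hp.fixed a b (hno a) (hno b))
    obtain ⟨x, hx⟩ := this
    refine ⟨swap x (p x), hp.mem x, Perm.sign_swap hx.symm, ?_⟩
    rw [swap_conj]
    exact hsw _ _ hx.symm (hp.mem x)
  apply sym_selfNorm P
  have hle : Subgroup.map (MulAut.conj σ).toMonoidHom (P : Subgroup (Perm Ω)) ≤ (P : Subgroup (Perm Ω)) := by
    rintro _ ⟨g, hg, rfl⟩
    change σ * g * σ⁻¹ ∈ (P : Subgroup (Perm Ω))
    by_cases hev : g ∈ alternatingGroup Ω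
    · exact h g hg hev
    · have h1 : g * s ∈ alternatingGroup Ω := by
        rw [Perm.mem_alternatingGroup] at hev ⊢
        rw [Perm.sign_mul, hs2]
        rcases Int.units_eq_one_or (Perm.sign g) with h2 | h2
        · exact absurd h2 hev
        · rw [h2]; norm_num
      have h2 := h _ (mul_mem hg hs1) h1
      have h3 : σ * g * σ⁻¹ = (σ * (g * s) * σ⁻¹) * (σ * s * σ⁻¹)⁻¹ := by group
      rw [h3]
      exact mul_mem h2 (inv_mem hs3)
  have hcard : Nat.card (Subgroup.map (MulAut.conj σ).toMonoidHom (P : Subgroup (Perm Ω))) = Nat.card P :=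
    Nat.card_congr ((P : Subgroup (Perm Ω)).equivMapOfInjective _ (MulAut.conj σ).injective).symm.toEquiv
  have heq : Subgroup.map (MulAut.conj σ).toMonoidHom (P : Subgroup (Perm Ω)) = (P : Subgroup (Perm Ω)) :=
    Subgroup.eq_of_le_of_card_ge hle (le_of_eq hcard.symm)
  rw [mem_normalizer_iff]
  intro g
  constructor
  · intro hg
    exact hle ⟨g, hg, rfl⟩
  · intro hg
    rw [← heq] at hg
    obtain ⟨y, hy, hyx⟩ := hg
    have : y = g := (MulAut.conj σ).injective (by simpa using hyx)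
    rw [← this]; exact hy

/-- **a Sylow 2-subgroup of an alternating group of degree at least 6 is its own normaliser** -/
theorem alt_selfNorm [Fintype Ω] (hc : 6 ≤ Fintype.card Ω) (S : Sylow 2 (alternatingGroup Ω)) :
    normalizer ((S : Subgroup (alternatingGroup Ω)) : Set (alternatingGroup Ω)) ≤ (S : Subgroup (alternatingGroup Ω)) := by
  intro g hg
  obtain ⟨P, hP⟩ := (S.isPGroup'.map (alternatingGroup Ω).subtype).exists_le_sylow
  have hSP : (P : Subgroup (Perm Ω)).comap (alternatingGroup Ω).subtype = S :=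
    S.is_maximal' (P.isPGroup'.comap_of_injective _ (Subgroup.subtype_injective _)) (map_le_iff_le_comap.1 hP)
  have hmem : ∀ x : alternatingGroup Ω, x ∈ (S : Subgroup (alternatingGroup Ω)) ↔ (x : Perm Ω) ∈ (P : Subgroup (Perm Ω)) := by
    intro x
    rw [← hSP]
    rfl
  rw [hmem]
  apply norm_of_norm_alt hc P
  · intro x hx hx2
    have h1 := ((mem_normalizer_iff.1 hg) ⟨x, hx2⟩).1 ((hmem _).2 hx)
    exact (hmem _).1 h1
  · intro x hx hx2
    have h1 := ((mem_normalizer_iff.1 (inv_mem hg)) ⟨x, hx2⟩).1 ((hmem _).2 hx)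
    have h2 := (hmem _).1 h1
    simpa using h2

end

end Cfsg.Agent.H94.Syl2Sym
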