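import Cfsg.Agent.H537.CopDefs
import Cfsg.Agent.H845.HNNineteen
import Cfsg.Agent.H149.Sp.HNEleven
import Cfsg.Agent.BpSpor.HSInv
import Cfsg.Agent.FastGrp
import Cfsg.Agent.Prune
set_option linter.all false
prune_inst 0x7f00000000000000000000000000000000000000000000000000000000000000000000000000000000000000000000000000000000000000000000000000000000000000000000000000000000000000003fffffffffffffffffffffffffffbeffbdffffffff
open scoped Cfsg.Agent.FastGrp

/-!
# Centralizer facts for `HN` (helper94, for S4174, S4175)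

* `sc_nineteen` : `SC 19 HN`;
* `cb_eleven` : `CB 11 2 1 HN`, `cb_eleven'` : `CB 11 2 2 HN`;
* `cb_three`, `cb_five` : `CB 3 2 9 HN`, `CB 5 2 9 HN`.

For `x` of order 3 or 5 the 2-part of `C(x)` is seen in `C(x) ∩ C(t)` for an involution `t` (`Cen.not_dvd_of_inv`);
if `C(t) = 2^(1+8).(A5 × A5).2` then `|C(x) ∩ R|` divides `2^7` and the centralizers of elements of order 3, 5 in
`(A5 × A5).2` have 2-part at most 4; if `C(t) = 2.HS.2` then the 2-part is at most `2^7`.
-/

set_option autoImplicit false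

namespace Cfsg.Agent.H94.CopHN

open Cfsg Subgroup
open Cfsg.Agent Cfsg.Agent.H537.Cop
open Cfsg.Agent.KFacts.HN.Classes (card_HN)

theorem sc_nineteen : SC 19 Spor.HN := by
  have := H845.HNNineteen.finite_HN
  obtain ⟨x, hx, hc⟩ := H845.HNNineteen.hn_nineteen
  intro y hy
  rw [H729.PairBase.card_cent_of_one (by norm_num : Nat.Prime 19) (by rw [card_HN]; norm_num) hx hy]
  exact hc

theorem cb_eleven : CB 11 2 1 Spor.HN := fun x hx h => H149.Sp.hn_cent_eleven x hx (by simpa using h)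

/-! ### `(A5 × A5).2` -/

section Lq

open Cfsg.Agent.KFacts.HN Cfsg.Agent.CpAutHN.LqFacts
open Cfsg.Agent.HN.XWords

theorem odd_cent_three {a : A5} (ha : orderOf a = 3) : ¬ 2 ∣ Nat.card (centralizer ({a} : Set A5)) := by
  intro h
  have : Fact (Nat.Prime 2) := ⟨Nat.prime_two⟩
  obtain ⟨u, hu⟩ := exists_prime_orderOf_dvd_card' 2 h
  have h3 : a ^ 3 = 1 := by rw [← ha, pow_orderOf_eq_one]
  have h1 : a ≠ 1 := by
    rintro rfl
    rw [orderOf_one] at ha
    norm_num at ha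
  obtain ⟨g, hg⟩ := conj_c0 h3 h1
  have hu' : orderOf (u : A5) = 2 := by rw [Subgroup.orderOf_coe, hu]
  have hu2 : (u : A5) * u = 1 := by rw [← pow_two, ← hu', pow_orderOf_eq_one]
  have hua : (u : A5) * a = a * u := mem_centralizer_singleton_iff.1 u.2
  have h4 : g * (u : A5) * g⁻¹ = 1 := two_c0 (by
    calc g * (u : A5) * g⁻¹ * (g * u * g⁻¹) = g * (u * u) * g⁻¹ := by group
      _ = 1 := by rw [hu2]; group) (by
    rw [← hg]
    calc g * (u : A5) * g⁻¹ * (g * a * g⁻¹) = g * (u * a) * g⁻¹ := by group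
      _ = g * (a * u) * g⁻¹ := by rw [hua]
      _ = g * a * g⁻¹ * (g * u * g⁻¹) := by group)
  have h5 : (u : A5) = 1 := conj_eq_one_iff.1 h4
  rw [h5, orderOf_one] at hu'
  norm_num at hu'

theorem card_perm_five {g : Equiv.Perm (Fin 5)} (hg : orderOf g = 5) :
    Nat.card ↥(centralizer ({g} : Set (Equiv.Perm (Fin 5)))) = 5 := by
  obtain ⟨n, hn⟩ := Equiv.Perm.cycleType_prime_order (σ := g) (by rw [hg]; norm_num)
  rw [hg] at hn
  have h1 : g.cycleType.sum ≤ 5 := by
    have := g.sum_cycleType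
    rw [this]
    exact (Finset.card_le_univ _).trans (by simp)
  rw [hn, Multiset.sum_replicate, smul_eq_mul] at h1
  have h2 : n = 0 := by omega
  rw [Equiv.Perm.nat_card_centralizer, hn]
  subst h2
  decide

theorem odd_cent_five {a : A5} (ha : orderOf a = 5) : ¬ 2 ∣ Nat.card (centralizer ({a} : Set A5)) := by
  intro h
  have h1 := card_perm_five (g := (a : Equiv.Perm (Fin 5))) (by rw [Subgroup.orderOf_coe, ha])
  have h0 : ∀ c : ↥(centralizer ({a} : Set A5)), ((c : A5) : Equiv.Perm (Fin 5)) ∈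
      centralizer ({(a : Equiv.Perm (Fin 5))} : Set _) := by
    intro c
    rw [mem_centralizer_singleton_iff]
    exact congrArg Subtype.val (mem_centralizer_singleton_iff.1 c.2)
  let f : ↥(centralizer ({a} : Set A5)) →* ↥(centralizer ({(a : Equiv.Perm (Fin 5))} : Set (Equiv.Perm (Fin 5)))) :=
    ((alternatingGroup (Fin 5)).subtype.comp (Subgroup.subtype _)).codRestrict _ h0
  have h2 := card_dvd_of_injective f fun c d hcd => by
    apply Subtype.ext
    apply Subtype.ext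
    have h9 : ((f c : ↥(centralizer ({(a : Equiv.Perm (Fin 5))} : Set (Equiv.Perm (Fin 5))))) :
      Equiv.Perm (Fin 5)) = f d := by rw [hcd]
    exact h9
  rw [h1] at h2
  have := h.trans h2
  norm_num at this

theorem odd_cent {p : ℕ} (hp : p = 3 ∨ p = 5) {a : A5} (ha : a ^ p = 1) (h1 : a ≠ 1) :
    ¬ 2 ∣ Nat.card (centralizer ({a} : Set A5)) := by
  rcases hp with rfl | rfl
  · have : Fact (Nat.Prime 3) := ⟨Nat.prime_three⟩
    exact odd_cent_three (orderOf_eq_prime ha h1)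
  · have : Fact (Nat.Prime 5) := ⟨Nat.prime_five⟩
    exact odd_cent_five (orderOf_eq_prime ha h1)

/-- the centralizer of `φA a φB b` in `LL` -/
theorem card_inf_LL {a b : A5} : Nat.card ↥(centralizer ({φA a * φB b} : Set Lq) ⊓ LL) ∣
    Nat.card (centralizer ({a} : Set A5)) * Nat.card (centralizer ({b} : Set A5)) := by
  have hinj : Function.Injective φ2 := by
    rintro ⟨a, b⟩ ⟨a', b'⟩ h
    obtain ⟨h1, h2⟩ := φ2_inj h
    exact Prod.ext h1 h2
  let T : Subgroup (A5 × A5) := (centralizer ({a} : Set A5)).prod (centralizer ({b} : Set A5))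
  have h1 : Nat.card T = Nat.card (centralizer ({a} : Set A5)) * Nat.card (centralizer ({b} : Set A5)) := by
    rw [Nat.card_congr (Subgroup.prodEquiv _ _).toEquiv, Nat.card_prod]
  rw [← h1, ← Subgroup.card_map_of_injective hinj (K := T)]
  refine Subgroup.card_dvd_of_le ?_
  rintro z ⟨hz, hzL⟩
  obtain ⟨c, d, rfl⟩ := mem_LL.1 hzL
  have h2 := mem_centralizer_singleton_iff.1 hz
  have h3 : φA c * φB d * (φA a * φB b) * (φA c * φB d)⁻¹ = φA a * φB b := by rw [h2]; group
  rw [conj_AB] at h3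
  obtain ⟨h4, h5⟩ := φ2_inj h3
  exact ⟨(c, d), Subgroup.mem_prod.2 ⟨mem_centralizer_singleton_iff.2 (mul_inv_eq_iff_eq_mul.1 h4),
    mem_centralizer_singleton_iff.2 (mul_inv_eq_iff_eq_mul.1 h5)⟩, rfl⟩

theorem card_cent_one : Nat.card (centralizer ({1} : Set A5)) = 60 := by
  have h : centralizer ({1} : Set A5) = ⊤ := by
    rw [eq_top_iff]
    intro y _
    rw [mem_centralizer_singleton_iff, one_mul, mul_one]
  rw [h, Subgroup.card_top, card_A5]

theorem not_eight_A {p : ℕ} (hp : p = 3 ∨ p = 5) {a : A5} (ha : a ^ p = 1) (h1 : a ≠ 1) :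
    ¬ 8 ∣ Nat.card (centralizer ({φA a} : Set Lq)) := by
  intro h8
  have h2 : centralizer ({φA a} : Set Lq) ⊓ LL = centralizer ({φA a} : Set Lq) :=
    inf_eq_left.2 fun z hz => mem_LL_of_comm h1 (mem_centralizer_singleton_iff.1 hz)
  have h3 := card_inf_LL (a := a) (b := 1)
  rw [map_one, mul_one, h2, card_cent_one] at h3
  have h4 := h8.trans h3
  have h5 : Nat.Coprime 8 (Nat.card (centralizer ({a} : Set A5))) := by
    rw [show 8 = 2 ^ 3 by norm_num]
    exact Nat.Coprime.pow_left _ ((Nat.Prime.coprime_iff_not_dvd Nat.prime_two).2 (odd_cent hp ha h1))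
  have h6 := h5.dvd_of_dvd_mul_left h4
  norm_num at h6

theorem not_eight {p : ℕ} (hp : p = 3 ∨ p = 5) {z : Lq} (hz : orderOf z = p) :
    ¬ 8 ∣ Nat.card (centralizer ({z} : Set Lq)) := by
  have hfin : Finite Lq := Nat.finite_of_card_ne_zero (by rw [card_Lq]; norm_num)
  have hzL : z ∈ LL := H463.Sp.mem_of_index_two index_LL (by rcases hp with rfl | rfl <;> norm_num) hz
  obtain ⟨a, b, rfl⟩ := mem_LL.1 hzL
  have hpow : φA (a ^ p) * φB (b ^ p) = φA 1 * φB 1 := by
    have h1 : (φA a * φB b) ^ p = 1 := by rw [← hz, pow_orderOf_eq_one]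
    have h2 : Commute (φA a) (φB b) := comm_AB a b
    rw [h2.mul_pow] at h1
    rw [map_pow, map_pow, map_one, map_one, mul_one]
    exact h1
  obtain ⟨ha, hb⟩ := φ2_inj hpow
  by_cases hb1 : b = 1
  · rw [hb1, map_one, mul_one] at hz ⊢
    refine not_eight_A hp ha ?_
    rintro rfl
    rw [map_one, orderOf_one] at hz
    omega
  by_cases ha1 : a = 1
  · rw [ha1, map_one, one_mul]
    have h1 : IsConj (φB b) (φA b) := isConj_iff.2 ⟨e [1], e1_A b⟩
    rw [SigZeroHN.card_centralizer_conj h1]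
    exact not_eight_A hp hb hb1
  intro h8
  have h1 := card_inf_LL (a := a) (b := b)
  have h2 : LL.relIndex (centralizer ({φA a * φB b} : Set Lq)) ∣ 2 := by
    have := Subgroup.normal_of_index_eq_two index_LL
    rw [← index_LL]
    exact Subgroup.relIndex_dvd_index_of_normal LL _
  generalize centralizer ({φA a * φB b} : Set Lq) = J at *
  have h3 : Nat.card ↥(J ⊓ LL) * LL.relIndex J = Nat.card ↥J := by
    rw [← Subgroup.relIndex_bot_left, ← Subgroup.relIndex_bot_left, inf_comm, ← Subgroup.inf_relIndex_right LL J]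
    exact Subgroup.relIndex_mul_relIndex _ _ _ bot_le inf_le_right
  have h4 : ¬ 2 ∣ Nat.card ↥(J ⊓ LL) := by
    intro h
    rcases (Nat.Prime.dvd_mul Nat.prime_two).1 (h.trans h1) with h | h
    · exact odd_cent hp ha ha1 h
    · exact odd_cent hp hb hb1 h
  have h5 : Nat.Coprime 8 (Nat.card ↥(J ⊓ LL)) := by
    rw [show 8 = 2 ^ 3 by norm_num]
    exact Nat.Coprime.pow_left _ ((Nat.Prime.coprime_iff_not_dvd Nat.prime_two).2 h4)
  rw [← h3] at h8
  have h6 := (h5.dvd_of_dvd_mul_left h8).trans h2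
  norm_num at h6

/-- the involutions with centralizer `2^(1+8).(A5 × A5).2` -/
theorem not_W0 {p : ℕ} (hp : p = 3 ∨ p = 5) {x : Spor.HN} (hx : orderOf x = p) (hxW : x * W0 = W0 * x) :
    ¬ 2 ^ 10 ∣ Nat.card ↥(centralizer ({W0} : Set Spor.HN) ⊓ centralizer ({x} : Set Spor.HN)) := by
  intro hd
  have hfin := H845.HNNineteen.finite_HN
  have hfinL : Finite Lq := Nat.finite_of_card_ne_zero (by rw [card_Lq]; norm_num)
  have hpp : p.Prime := by rcases hp with rfl | rfl <;> norm_num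
  have hF : Fact p.Prime := ⟨hpp⟩
  have hp2 : p ≠ 2 := by rcases hp with rfl | rfl <;> norm_num
  have hxP : x ∈ PP := mem_PP.2 hxW
  have h1 := BpSpor.Cen.card_inf_dvd (C := PP) (N := RS) ρ (fun c hc => ⟨c, hc, rfl⟩) ⟨x, hxP⟩
  have h2 : Nat.card ↥(RS ⊓ centralizer ({x} : Set Spor.HN)) ∣ 2 ^ (9 - 2) := by
    refine BpSpor.Cen.card_fix_dvd hp2 (by rw [card_RS]; norm_num) hx (fun y hy => conj_RS hxP hy) ?_
    intro h
    rcases cent_RS h with h3 | h3
    · rw [h3, orderOf_one] at hx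
      exact hpp.one_lt.ne hx
    · have h4 : x ^ 2 = 1 := by rw [h3, pow_two, W0_sq]
      have h5 := orderOf_dvd_of_pow_eq_one h4
      rw [hx] at h5
      exact hp2 ((Nat.prime_dvd_prime_iff_eq hpp Nat.prime_two).1 h5)
  have h3 : orderOf (ρ ⟨x, hxP⟩) = p := by
    have h4 : orderOf (ρ ⟨x, hxP⟩) ∣ p := by
      rw [← hx, ← Subgroup.orderOf_mk x hxP]
      exact orderOf_map_dvd ρ _
    rcases (Nat.dvd_prime hpp).1 h4 with h | h
    · exfalso
      rw [orderOf_eq_one_iff, ← MonoidHom.mem_ker] at h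
      have h5 := Subgroup.orderOf_dvd_natCard _ h
      rw [card_ker, Subgroup.orderOf_mk, hx, show 512 = 2 ^ 9 by norm_num] at h5
      exact hp2 ((Nat.prime_dvd_prime_iff_eq hpp Nat.prime_two).1 (hpp.dvd_of_dvd_pow h5))
    · exact h
  have h4 := not_eight hp h3
  have h5 : 2 ^ 7 * 8 ∣ 2 ^ 7 * Nat.card (centralizer ({ρ ⟨x, hxP⟩} : Set Lq)) := by
    have h6 := hd.trans (h1.trans (Nat.mul_dvd_mul_right h2 _))
    rwa [show 2 ^ 10 = 2 ^ 7 * 8 by norm_num, show 9 - 2 = 7 by norm_num] at h6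
  exact h4 (Nat.dvd_of_mul_dvd_mul_left (by norm_num) h5)

end Lq

/-! ### `2.HS.2` -/

/-- In `2.L.2` the centralizer of an element of odd prime order. -/
theorem exists_dvd {H L : Type*} [Group H] [Finite H] [Group L] [Finite L] {r : ℕ} (hr : r.Prime) (hr2 : r ≠ 2)
    (K : Subgroup H) (hK : K.index = 2) (hZ : Nat.card (center K) = 2) (e : K ⧸ center K ≃* L)
    {x : H} (hx : orderOf x = r) : ∃ y : L, orderOf y = r ∧
      Nat.card (centralizer ({x} : Set H)) ∣ 4 * Nat.card (centralizer ({y} : Set L)) := by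
  have hr' : ¬ 2 ∣ r := fun h => hr2 ((Nat.prime_dvd_prime_iff_eq Nat.prime_two hr).1 h).symm
  have hxK : x ∈ K := Cfsg.Agent.H463.Sp.mem_of_index_two hK hr' hx
  have hn : K.Normal := Subgroup.normal_of_index_eq_two hK
  set C : Subgroup H := centralizer ({x} : Set H) with hC
  have h1 : K.relIndex C ∣ 2 := hK ▸ Subgroup.relIndex_dvd_index_of_normal K C
  have h2 : Nat.card (K.subgroupOf C) * K.relIndex C = Nat.card C := Subgroup.card_mul_index (K.subgroupOf C)
  let D : Subgroup K := centralizer ({(⟨x, hxK⟩ : K)} : Set K)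
  have hD : Nat.card D = Nat.card (K.subgroupOf C) := by
    refine Nat.card_congr ⟨fun u => ⟨⟨u.1.1, ?_⟩, u.1.2⟩, fun u => ⟨⟨u.1.1, u.2⟩, ?_⟩, fun _ => rfl, fun _ => rfl⟩
    · have := mem_centralizer_singleton_iff.1 u.2
      exact mem_centralizer_singleton_iff.2 (congrArg Subtype.val this)
    · have := mem_centralizer_singleton_iff.1 u.1.2
      exact mem_centralizer_singleton_iff.2 (Subtype.ext this)
  let φ : K →* L := e.toMonoidHom.comp (QuotientGroup.mk' (center K))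
  have hker : φ.ker = center K := by
    ext u
    rw [MonoidHom.mem_ker]
    show e (QuotientGroup.mk' (center K) u) = 1 ↔ _
    rw [map_eq_one_iff e e.injective, ← MonoidHom.mem_ker, QuotientGroup.ker_mk']
  let f : D →* L := φ.comp D.subtype
  have hfk : Nat.card f.ker ∣ 2 := by
    rw [← hZ, ← hker]
    have h4 : f.ker = φ.ker.subgroupOf D := by
      ext u
      rfl
    rw [h4]
    let F : φ.ker.subgroupOf D →* φ.ker :=
      { toFun := fun u => ⟨u.1.1, u.2⟩
        map_one' := rfl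
        map_mul' := fun _ _ => rfl }
    refine Subgroup.card_dvd_of_injective F ?_
    intro u v huv
    have := congrArg (fun z : φ.ker => (z : K)) huv
    exact Subtype.ext (Subtype.ext this)
  have hcard : Nat.card f.ker * Nat.card f.range = Nat.card D := by
    rw [← Subgroup.index_ker]
    exact Subgroup.card_mul_index f.ker
  have hxo : orderOf (φ ⟨x, hxK⟩) = r := by
    have h6 : orderOf (φ ⟨x, hxK⟩) ∣ r := by
      rw [← hx, ← Subgroup.orderOf_mk x hxK]
      exact orderOf_map_dvd φ _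
    rcases (Nat.dvd_prime hr).1 h6 with h | h
    · exfalso
      rw [orderOf_eq_one_iff, ← MonoidHom.mem_ker, hker] at h
      have h7 := Subgroup.orderOf_dvd_natCard _ h
      rw [hZ, Subgroup.orderOf_mk, hx] at h7
      exact hr2 ((Nat.prime_dvd_prime_iff_eq hr Nat.prime_two).1 h7)
    · exact h
  have hrange : f.range ≤ centralizer ({φ ⟨x, hxK⟩} : Set L) := by
    rintro _ ⟨v, rfl⟩
    rw [mem_centralizer_singleton_iff]
    have h6 := mem_centralizer_singleton_iff.1 v.2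
    show φ v * φ ⟨x, hxK⟩ = φ ⟨x, hxK⟩ * φ v
    rw [← map_mul, ← map_mul, h6]
  refine ⟨_, hxo, ?_⟩
  have h5 : Nat.card f.range ∣ Nat.card (centralizer ({φ ⟨x, hxK⟩} : Set L)) := Subgroup.card_dvd_of_le hrange
  rw [← h2, ← hD, ← hcard]
  obtain ⟨a, ha⟩ := h1
  obtain ⟨b, hb⟩ := hfk
  obtain ⟨c, hc⟩ := h5
  refine ⟨a * b * c, ?_⟩
  calc 4 * Nat.card (centralizer ({φ ⟨x, hxK⟩} : Set L)) = 2 * 2 * Nat.card (centralizer ({φ ⟨x, hxK⟩} : Set L)) := by ring
    _ = (K.relIndex C * a) * (Nat.card f.ker * b) * (Nat.card f.range * c) := by rw [← ha, ← hb, ← hc]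
    _ = _ := by ring

open Cfsg.Agent.HN.NormalH Cfsg.Agent.KFacts.HN.Classes
open Cfsg.Agent.HN.H0Basic (τ)

theorem not_dvd_H {p : ℕ} (hp : p = 3 ∨ p = 5) {x : H} (hx : orderOf x = p) :
    ¬ 2 ^ 8 ∣ Nat.card (centralizer ({x} : Set H)) := by
  intro hd
  have := Cfsg.Agent.H463.Sp.HN.finite_HN
  have hpp : p.Prime := by rcases hp with rfl | rfl <;> norm_num
  have hp2 : p ≠ 2 := by rcases hp with rfl | rfl <;> norm_num
  obtain ⟨K, -, hK, hZ, ⟨e⟩, -⟩ := exists_double_cover_H Cfsg.Agent.HN.Upper.card_H0_le.1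
    Cfsg.Agent.HN.Upper.card_H0_le.2 Cfsg.Agent.HN.XSq.hx_sq_ne
  obtain ⟨D⟩ := Cfsg.Agent.KFacts.HS.exists_mod (L := Spor.HS) ⟨MulEquiv.refl _⟩
  have hf : Finite Spor.HS := D.finite
  obtain ⟨y, hy, h1⟩ := exists_dvd hpp hp2 K hK hZ e hx
  have h2 := BpSpor.Cen.not_dvd_of_bd hpp hp2 hy fun t ht => BpSpor.HSInv.bd D hp t ht
  apply h2
  have h3 : 4 * 64 ∣ 4 * Nat.card (centralizer ({y} : Set Spor.HS)) := by
    have h4 := hd.trans h1
    rwa [show 2 ^ 8 = 4 * 64 by norm_num] at h4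
  exact Nat.dvd_of_mul_dvd_mul_left (by norm_num) h3

theorem not_τ {p : ℕ} (hp : p = 3 ∨ p = 5) {x : Spor.HN} (hx : orderOf x = p) (hxt : x * ψ τ = ψ τ * x) :
    ¬ 2 ^ 8 ∣ Nat.card ↥(centralizer ({ψ τ} : Set Spor.HN) ⊓ centralizer ({x} : Set Spor.HN)) := by
  have hxH : x ∈ H := by
    rw [← centralizer_τ]
    exact mem_centralizer_singleton_iff.2 hxt
  have h1 := not_dvd_H hp (x := ⟨x, hxH⟩) (by rw [Subgroup.orderOf_mk, hx])
  have h2 : Nat.card (centralizer ({(⟨x, hxH⟩ : H)} : Set H)) =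
      Nat.card ↥(H ⊓ centralizer ({x} : Set Spor.HN)) := by
    refine Nat.card_congr ⟨fun u => ⟨u.1.1, u.1.2, ?_⟩, fun u => ⟨⟨u.1, u.2.1⟩, ?_⟩, fun _ => rfl, fun _ => rfl⟩
    · have := mem_centralizer_singleton_iff.1 u.2
      exact mem_centralizer_singleton_iff.2 (congrArg Subtype.val this)
    · have := mem_centralizer_singleton_iff.1 u.2.2
      exact mem_centralizer_singleton_iff.2 (Subtype.ext this)
  rw [h2] at h1
  rw [centralizer_τ]
  exact h1

/-! ### the theorems -/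

theorem comm_conj {G : Type*} [Group G] (g : G) {x t : G} (h : x * t = t * x) :
    g * x * g⁻¹ * (g * t * g⁻¹) = g * t * g⁻¹ * (g * x * g⁻¹) := by
  calc g * x * g⁻¹ * (g * t * g⁻¹) = g * (x * t) * g⁻¹ := by group
    _ = g * (t * x) * g⁻¹ := by rw [h]
    _ = _ := by group

theorem orderOf_conj {G : Type*} [Group G] (g x : G) : orderOf (g * x * g⁻¹) = orderOf x :=
  orderOf_injective (MulAut.conj g).toMonoidHom (MulAut.conj g).injective x

theorem main {p : ℕ} (hp : p = 3 ∨ p = 5) (x : Spor.HN) (hx : orderOf x = p) :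
    ¬ 2 ^ 10 ∣ Nat.card (centralizer ({x} : Set Spor.HN)) := by
  have := Cfsg.Agent.H463.Sp.HN.finite_HN
  refine BpSpor.Cen.not_dvd_of_inv (by norm_num) fun t ht hxt hd => ?_
  rcases SigZeroHN.card_centralizer_cases ht with ⟨h, -⟩ | ⟨h, -⟩
  · obtain ⟨g, hg⟩ := isConj_iff.1 h
    refine not_τ hp (x := g * x * g⁻¹) (by rw [orderOf_conj, hx]) (by rw [← hg]; exact comm_conj g hxt) ?_
    rw [← hg, BpSpor.Cen.card_inf_conj, show g⁻¹ * (g * x * g⁻¹) * g = x by group]
    exact (Nat.pow_dvd_pow 2 (by norm_num)).trans hd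
  · obtain ⟨g, hg⟩ := isConj_iff.1 h
    refine not_W0 hp (x := g * x * g⁻¹) (by rw [orderOf_conj, hx]) (by rw [← hg]; exact comm_conj g hxt) ?_
    rw [← hg, BpSpor.Cen.card_inf_conj, show g⁻¹ * (g * x * g⁻¹) * g = x by group]
    exact hd

theorem cb_three : CB 3 2 9 Spor.HN := fun x hx h => main (Or.inl rfl) x hx h

theorem cb_five : CB 5 2 9 Spor.HN := fun x hx h => main (Or.inr rfl) x hx h

end Cfsg.Agent.H94.CopHN
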