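import Cfsg.Agent.H94.Sp.Base_m3
import Cfsg.Agent.OddCyclic.ClaimC.SzIso
import Cfsg.Agent.S0331
import Cfsg.Agent.S0332
import Cfsg.Agent.S1158
import Cfsg.Agent.S1159
import Cfsg.Agent.FastGrp
import Cfsg.Agent.Prune
set_option linter.all false
prune_inst 0x7f00000000000000000000000000000000000000000000000000000000000000000000000000000000000000000000000000000000000000000000000000000000000000000000000000000000000000003fffffffffffffffffffffffffffbeffbdffffffff
open scoped Cfsg.Agent.FastGrp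

/-!
# The prime graph rows of the Suzuki groups and the small Ree groups (helper94)

* `HasCyc G r` : a cyclic subgroup of order divisible by `r` which contains the centralizers of its nonidentity elements;
* `sz_cyc`, `ree_cyc` : `HasCyc` for the primes not `Near`;
* `good2_sz`, `good2_ree` : the groups satisfy `Good2` (so `Good` and `AC`).
-/

set_option autoImplicit false
set_option linter.unusedVariables false

namespace Cfsg.Agent.H94.RankOne

open Subgroup Cfsg Cfsg.Agent.H94.PG Cfsg.Agent.H564.NearTwo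

/-- a cyclic subgroup of order divisible by `r` which contains the centralizers of its nonidentity elements -/
def HasCyc (G : Type*) [Group G] (r : ℕ) : Prop :=
  ∃ T : Subgroup G, r ∣ Nat.card T ∧ IsCyclic T ∧ ∀ y ∈ T, y ≠ 1 → centralizer ({y} : Set G) ≤ T

theorem HasCyc.hasCC {G : Type*} [Group G] {r : ℕ} (h : HasCyc G r) : HasCC G r := by
  obtain ⟨T, h1, h2, h3⟩ := h
  refine ⟨T, h1, fun a ha b hb => ?_, h3⟩
  have := h2.commGroup.mul_comm (⟨a, ha⟩ : T) ⟨b, hb⟩
  exact congrArg Subtype.val this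

theorem HasCyc.congr {G H : Type*} [Group G] [Group H] (e : G ≃* H) {r : ℕ} (h : HasCyc G r) : HasCyc H r := by
  obtain ⟨T, h1, h2, h3⟩ := h
  refine ⟨T.map e.toMonoidHom, ?_, ?_, ?_⟩
  · rw [Nat.card_congr (T.equivMapOfInjective e.toMonoidHom e.injective).symm.toEquiv]
    exact h1
  · exact isCyclic_of_surjective (T.equivMapOfInjective e.toMonoidHom e.injective).toMonoidHom
      (T.equivMapOfInjective e.toMonoidHom e.injective).surjective
  · rintro _ ⟨y, hy, rfl⟩ hy1 z hz
    have hy1' : y ≠ 1 := fun h => hy1 (by rw [h, map_one])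
    rw [mem_centralizer_singleton_iff] at hz
    refine ⟨e.symm z, h3 y hy hy1' ?_, by simp⟩
    rw [mem_centralizer_singleton_iff]
    apply e.injective
    simpa using hz

/-! ### CN-groups -/

/-- a nilpotent group of odd order embedded in a group with cyclic Sylow subgroups for odd primes is cyclic -/
theorem isCyclic_of_nilpotent {G : Type*} [Group G] [Finite G]
    (hcyc : ∀ p : ℕ, p.Prime → p ≠ 2 → ∀ P : Sylow p G, IsCyclic P) {C : Subgroup G} (hC : Group.IsNilpotent C)
    (hodd : ¬ 2 ∣ Nat.card C) : IsCyclic C := by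
  have hZ : IsZGroup C := by
    constructor
    intro p hp P
    have : Fact p.Prime := ⟨hp⟩
    by_cases h2 : p = 2
    · subst h2
      have h3 : Nat.card P = 1 := by
        obtain ⟨k, hk⟩ := IsPGroup.iff_card.1 P.isPGroup'
        rcases Nat.eq_zero_or_pos k with h0 | h0
        · rw [hk, h0, pow_zero]
        · exfalso
          apply hodd
          refine (dvd_pow_self 2 h0.ne').trans ?_
          rw [← hk]
          exact Subgroup.card_subgroup_dvd_card _
      have : Subsingleton (P : Subgroup C) := (Nat.card_eq_one_iff_unique.1 h3).1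
      exact isCyclic_of_subsingleton
    · have h1 : IsPGroup p ((P : Subgroup C).map C.subtype) := P.isPGroup'.map _
      obtain ⟨Q, hQ⟩ := h1.exists_le_sylow
      have hQc := hcyc p hp h2 Q
      have h2 : IsCyclic ((P : Subgroup C).map C.subtype) :=
        isCyclic_of_injective (Subgroup.inclusion hQ) (Subgroup.inclusion_injective hQ)
      let e := (P : Subgroup C).equivMapOfInjective C.subtype (Subgroup.subtype_injective C)
      exact isCyclic_of_surjective e.symm.toMonoidHom e.symm.surjective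
  infer_instance

theorem cn_cyc {G : Type*} [Group G] [Finite G] (hcn : IsCNGroup G)
    (hcyc : ∀ p : ℕ, p.Prime → p ≠ 2 → ∀ P : Sylow p G, IsCyclic P) {r : ℕ} (hr : r.Prime) (hd : r ∣ Nat.card G)
    (hn : ¬ Near G r) : HasCyc G r := by
  have : Fact r.Prime := ⟨hr⟩
  obtain ⟨x, hx⟩ := exists_prime_orderOf_dvd_card' r hd
  have hx1 : x ≠ 1 := by
    rintro rfl
    rw [orderOf_one] at hx
    exact hr.one_lt.ne' hx.symm
  -- elements of odd order not adjacent to 2 have cyclic centralizers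
  have key : ∀ y : G, Commute y x → y ≠ 1 → IsCyclic (centralizer ({y} : Set G)) := by
    intro y hy hy1
    refine isCyclic_of_nilpotent hcyc (hcn y hy1) ?_
    intro h2
    have : Fact (Nat.Prime 2) := ⟨Nat.prime_two⟩
    obtain ⟨t, ht⟩ := exists_prime_orderOf_dvd_card' 2 h2
    have hty : Commute y (t : G) := (mem_centralizer_singleton_iff.1 t.2 : (t : G) * y = y * t).symm
    exact hn (near_of_ne_one hr hy.symm hty hy1 (by rw [hx]) (by rw [Subgroup.orderOf_coe, ht]))
  refine ⟨centralizer ({x} : Set G), ?_, key x (Commute.refl x) hx1, ?_⟩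
  · have hx' : x ∈ centralizer ({x} : Set G) := by rw [mem_centralizer_singleton_iff]
    have := orderOf_dvd_natCard (⟨x, hx'⟩ : centralizer ({x} : Set G))
    rwa [Subgroup.orderOf_mk, hx] at this
  · intro y hy hy1 z hz
    rw [mem_centralizer_singleton_iff] at hy hz ⊢
    have hc := (key y hy hy1).commGroup.mul_comm (⟨z, mem_centralizer_singleton_iff.2 hz⟩ : centralizer ({y} : Set G))
      ⟨x, mem_centralizer_singleton_iff.2 hy.symm⟩
    exact congrArg Subtype.val hc

/-! ### Suzuki groups -/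

theorem sz_cyc {S : Type*} [Group S] (h : Lie.IsoSuzuki S) {r : ℕ} (hr : r.Prime) (hd : r ∣ Nat.card S)
    (hn : ¬ Near S r) : HasCyc S r := by
  obtain ⟨F, i1, i2, m, hm, hF, ⟨e⟩⟩ := h
  obtain ⟨f⟩ := OddCyclic.ClaimC.SzIso.iso hm hF
  have hf : Finite (Cfsg.Sz F m) := inferInstance
  have g := e.trans f.symm
  refine (cn_cyc (S0332.result hm hF) (fun p hp h2 P => ?_) hr (by rwa [← Nat.card_congr g.toEquiv])
    (by rwa [← near_congr g])).congr g.symm
  have : Fact p.Prime := ⟨hp⟩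
  exact S0331.result hm hF h2 P

theorem good2_sz {S : Type*} [Group S] (h : Lie.IsoSuzuki S) : Good2 S :=
  fun r hr hd hn => (sz_cyc h hr hd hn).hasCC

/-! ### Ree groups -/

theorem card_mul_relIndex {G : Type*} [Group G] {H K : Subgroup G} (h : H ≤ K) :
    Nat.card H * H.relIndex K = Nat.card K := by
  have := Subgroup.card_mul_index (H.subgroupOf K)
  rwa [Nat.card_congr (Subgroup.subgroupOfEquivOfLe h).toEquiv] at this

section ree

variable {K : Type*} [Field K] [Fintype K] {m : ℕ}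

variable (K m) in
/-- the Ree group -/
abbrev RG : Type _ := ↥(Cfsg.Lie.twistedG2 K (3 ^ m))

/-- arithmetic: a prime divisor of `q ± 3^(m+1) + 1` does not divide `6`, `q - 1`, `q + 1` -/
theorem arith {m : ℕ} (hm : 1 ≤ m) {t : ℕ} (ht : t.Prime)
    (h : t ∣ 3 ^ (2 * m + 1) - 3 ^ (m + 1) + 1 ∨ t ∣ 3 ^ (2 * m + 1) + 3 ^ (m + 1) + 1) :
    t ≠ 2 ∧ t ≠ 3 ∧ ¬ t ∣ 3 ^ (2 * m + 1) - 1 ∧ ¬ t ∣ 3 ^ (2 * m + 1) + 1 := by
  set a := 3 ^ m with ha
  have e1 : 3 ^ (2 * m + 1) = 3 * (a * a) := by rw [ha]; ring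
  have e2 : 3 ^ (m + 1) = 3 * a := by rw [ha]; ring
  rw [e1, e2] at h
  rw [e1]
  have ha1 : 3 ≤ a := by
    rw [ha]
    calc 3 = 3 ^ 1 := by norm_num
      _ ≤ 3 ^ m := Nat.pow_le_pow_right (by norm_num) hm
  have hodd : a % 2 = 1 := by rw [ha, Nat.pow_mod]; norm_num
  have haa : a * a % 2 = 1 := by rw [Nat.mul_mod, hodd]
  have hle : 3 * a ≤ 3 * (a * a) := Nat.mul_le_mul_left 3 (Nat.le_mul_self a)
  -- `t` divides `q^2 - q + 1`
  have hdiv : (t : ℤ) ∣ (3 * (a * a) : ℤ) ^ 2 - (3 * (a * a) : ℤ) + 1 := by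
    have e : (3 * (a * a) : ℤ) ^ 2 - (3 * (a * a) : ℤ) + 1 =
        (3 * (a * a) - 3 * a + 1) * (3 * (a * a) + 3 * a + 1) := by ring
    rw [e]
    rcases h with h | h
    · have h1 : (t : ℤ) ∣ (3 * (a * a) - 3 * a + 1 : ℤ) := by
        have := Int.natCast_dvd_natCast.2 h
        push_cast [hle] at this
        exact this
      exact h1.mul_right _
    · have h1 : (t : ℤ) ∣ (3 * (a * a) + 3 * a + 1 : ℤ) := by exact_mod_cast Int.natCast_dvd_natCast.2 h
      exact h1.mul_left _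
  have h3 : t ≠ 3 := by
    rintro rfl
    rcases h with h | h <;> omega
  have h2 : t ≠ 2 := by
    rintro rfl
    rcases h with h | h <;> omega
  refine ⟨h2, h3, ?_, ?_⟩
  · intro hd
    have h1 : (t : ℤ) ∣ (3 * (a * a) - 1 : ℤ) := by
      have := Int.natCast_dvd_natCast.2 hd
      rw [Nat.cast_sub (by nlinarith)] at this
      exact_mod_cast this
    have h4 : (t : ℤ) ∣ 1 := by
      have e : (1 : ℤ) = ((3 * (a * a) : ℤ) ^ 2 - (3 * (a * a) : ℤ) + 1) - (3 * (a * a) - 1) * (3 * (a * a)) := by ring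
      rw [e]
      exact dvd_sub hdiv (h1.mul_right _)
    have := Int.natCast_dvd_natCast.1 (by simpa using h4 : (t : ℤ) ∣ ((1 : ℕ) : ℤ))
    exact ht.one_lt.ne' (Nat.dvd_one.1 this)
  · intro hd
    have h1 : (t : ℤ) ∣ (3 * (a * a) + 1 : ℤ) := by exact_mod_cast Int.natCast_dvd_natCast.2 hd
    have h4 : (t : ℤ) ∣ 3 := by
      have e : (3 : ℤ) = ((3 * (a * a) : ℤ) ^ 2 - (3 * (a * a) : ℤ) + 1) - (3 * (a * a) + 1) * (3 * (a * a) - 2) := by ring
      rw [e]
      exact dvd_sub hdiv (h1.mul_right _)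
    have := Int.natCast_dvd_natCast.1 (by simpa using h4 : (t : ℤ) ∣ ((3 : ℕ) : ℤ))
    exact h3 ((Nat.prime_dvd_prime_iff_eq ht Nat.prime_three).1 this)

/-- no elements of order `2 t` or `3 t` -/
theorem no_elt (hm : 1 ≤ m) (hK : Fintype.card K = 3 ^ (2 * m + 1)) {t : ℕ} (ht : t.Prime)
    (h : t ∣ 3 ^ (2 * m + 1) - 3 ^ (m + 1) + 1 ∨ t ∣ 3 ^ (2 * m + 1) + 3 ^ (m + 1) + 1) {s : ℕ} (hs : s = 2 ∨ s = 3)
    (g : (RG K m)) : orderOf g ≠ s * t := by
  intro hg
  obtain ⟨h2, h3, h4, h5⟩ := arith hm ht h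
  have hsp : s.Prime := by rcases hs with rfl | rfl <;> norm_num
  rcases (S1159.result hm hK (s * t)).1 ⟨g, hg⟩ with h6 | h6 | h6 | h6 | h6 | h6
  · have : t ∣ 2 * 3 := (dvd_mul_left t s).trans h6
    rcases ht.dvd_mul.1 this with h | h
    · exact h2 ((Nat.prime_dvd_prime_iff_eq ht Nat.prime_two).1 h)
    · exact h3 ((Nat.prime_dvd_prime_iff_eq ht Nat.prime_three).1 h)
  · have : t ∣ 3 * 3 := (dvd_mul_left t s).trans h6
    rcases ht.dvd_mul.1 this with h | h
    · exact h3 ((Nat.prime_dvd_prime_iff_eq ht Nat.prime_three).1 h)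
    · exact h3 ((Nat.prime_dvd_prime_iff_eq ht Nat.prime_three).1 h)
  · exact h4 ((dvd_mul_left t s).trans h6)
  · refine h5 ((dvd_mul_left t s).trans (h6.trans ?_))
    exact Nat.div_dvd_of_dvd (by
      have : 3 ^ (2 * m + 1) % 2 = 1 := by rw [Nat.pow_mod]; norm_num
      omega)
  · obtain ⟨h7, h8, -, -⟩ := arith hm hsp (Or.inl ((dvd_mul_right s t).trans h6))
    rcases hs with h | h
    · exact h7 h
    · exact h8 h
  · obtain ⟨h7, h8, -, -⟩ := arith hm hsp (Or.inr ((dvd_mul_right s t).trans h6))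
    rcases hs with h | h
    · exact h7 h
    · exact h8 h

theorem ree_cyc' (hm : 1 ≤ m) (hK : Fintype.card K = 3 ^ (2 * m + 1)) {r : ℕ} (hr : r.Prime)
    (h : r ∣ 3 ^ (2 * m + 1) - 3 ^ (m + 1) + 1 ∨ r ∣ 3 ^ (2 * m + 1) + 3 ^ (m + 1) + 1) : HasCyc (RG K m) r := by
  -- the number `k`
  obtain ⟨k, hk, hrk, hkn⟩ : ∃ k, (k = 3 ^ (2 * m + 1) - 3 ^ (m + 1) + 1 ∨ k = 3 ^ (2 * m + 1) + 3 ^ (m + 1) + 1) ∧
      r ∣ k ∧ (k, 6 * k) ∈ ({((3 ^ (2 * m + 1) - 1) / 2, 2 * (3 ^ (2 * m + 1) - 1)),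
        ((3 ^ (2 * m + 1) + 1) / 4, 6 * (3 ^ (2 * m + 1) + 1)),
        (3 ^ (2 * m + 1) - 3 ^ (m + 1) + 1, 6 * (3 ^ (2 * m + 1) - 3 ^ (m + 1) + 1)),
        (3 ^ (2 * m + 1) + 3 ^ (m + 1) + 1, 6 * (3 ^ (2 * m + 1) + 3 ^ (m + 1) + 1))} : Set (ℕ × ℕ)) := by
    rcases h with h | h
    · exact ⟨_, Or.inl rfl, h, by simp⟩
    · exact ⟨_, Or.inr rfl, h, by simp⟩
  obtain ⟨A, hAc, hAk, hAN, hA⟩ := S1158.result hm hK (k, 6 * k) hkn
  have hfin : Finite (RG K m) := inferInstance
  refine ⟨A, by rw [hAk]; exact hrk, hAc, ?_⟩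
  intro y hy hy1 z hz
  -- `C(y) ≤ N(A)`
  have h1 : normalizer ((zpowers y : Subgroup (RG K m)) : Set (RG K m)) = normalizer (A : Set (RG K m)) :=
    hA (zpowers y) (zpowers_le.2 hy) (by rw [Ne, zpowers_eq_bot]; exact hy1)
  have hcent : ∀ u ∈ centralizer ({y} : Set (RG K m)), u ∈ normalizer (A : Set (RG K m)) := by
    intro u hu
    rw [mem_centralizer_singleton_iff] at hu
    rw [← h1, Subgroup.mem_normalizer_iff]
    intro w
    have huy : Commute u y := hu
    constructor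
    · intro hw
      obtain ⟨j, rfl⟩ := mem_zpowers_iff.1 hw
      rw [(huy.zpow_right j).eq, mul_inv_cancel_right]
      exact hw
    · intro hw
      obtain ⟨j, hj⟩ := mem_zpowers_iff.1 hw
      have : w = y ^ j := by
        have h3 : u⁻¹ * y ^ j * u = w := by rw [hj]; group
        rw [← h3]
        have h4 : Commute u⁻¹ (y ^ j) := (huy.zpow_right j).inv_left
        rw [h4.eq, inv_mul_cancel_right]
      rw [this]
      exact zpow_mem (mem_zpowers y) j
  -- a prime divisor of the order of `y`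
  obtain ⟨t, ht, htd⟩ := exists_prime_dvd hy1
  have htk : t ∣ k := by
    have h2 : orderOf y ∣ Nat.card A := by
      have := orderOf_dvd_natCard (⟨y, hy⟩ : A)
      rwa [Subgroup.orderOf_mk] at this
    rw [← show Nat.card A = k from hAk]
    exact htd.trans h2
  have htk' : t ∣ 3 ^ (2 * m + 1) - 3 ^ (m + 1) + 1 ∨ t ∣ 3 ^ (2 * m + 1) + 3 ^ (m + 1) + 1 := by
    rcases hk with rfl | rfl
    · exact Or.inl htk
    · exact Or.inr htk
  -- no elements of order 2, 3 in `C(y)`
  have hno : ∀ s, s = 2 ∨ s = 3 → ¬ s ∣ Nat.card (centralizer ({y} : Set (RG K m))) := by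
    intro s hs hd
    have hsp : s.Prime := by rcases hs with rfl | rfl <;> norm_num
    have : Fact s.Prime := ⟨hsp⟩
    obtain ⟨u, hu⟩ := exists_prime_orderOf_dvd_card' s hd
    have huy : Commute (u : (RG K m)) (y ^ (orderOf y / t)) :=
      (show Commute (u : (RG K m)) y from mem_centralizer_singleton_iff.1 u.2).pow_right _
    have ho := orderOf_pow_orderOf_div (orderOf_pos y).ne' htd
    have hco : (orderOf (u : (RG K m))).Coprime (orderOf (y ^ (orderOf y / t))) := by
      rw [Subgroup.orderOf_coe, hu, ho]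
      rw [Nat.coprime_primes hsp ht]
      obtain ⟨h2, h3, -, -⟩ := arith hm ht htk'
      rcases hs with rfl | rfl
      · exact h2.symm
      · exact h3.symm
    have h5 := huy.orderOf_mul_eq_mul_orderOf_of_coprime hco
    rw [Subgroup.orderOf_coe, hu, ho] at h5
    exact no_elt hm hK ht htk' hs _ h5
  -- the order of `C(y)` is `k`
  have hAC : A ≤ centralizer ({y} : Set (RG K m)) := by
    intro a ha
    rw [mem_centralizer_singleton_iff]
    have := hAc.commGroup.mul_comm (⟨a, ha⟩ : A) ⟨y, hy⟩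
    exact congrArg Subtype.val this
  have hCN : centralizer ({y} : Set (RG K m)) ≤ normalizer (A : Set (RG K m)) := hcent
  have e1 : A.relIndex (centralizer ({y} : Set (RG K m))) ∣ A.relIndex (normalizer (A : Set (RG K m))) := by
    rw [← Subgroup.relIndex_mul_relIndex A _ _ hAC hCN]
    exact dvd_mul_right _ _
  have e2 : A.relIndex (normalizer (A : Set (RG K m))) = 6 := by
    have h6 := card_mul_relIndex (Subgroup.le_normalizer : A ≤ normalizer (A : Set (RG K m)))
    rw [show Nat.card A = k from hAk, show Nat.card (normalizer (A : Set (RG K m))) = 6 * k from hAN] at h6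
    have hk0 : 0 < k := by rcases hk with rfl | rfl <;> omega
    have h7 : k * A.relIndex (normalizer (A : Set (RG K m))) = k * 6 := by rw [h6]; ring
    exact Nat.eq_of_mul_eq_mul_left hk0 h7
  rw [e2] at e1
  have e3 : A.relIndex (centralizer ({y} : Set (RG K m))) ∣ Nat.card (centralizer ({y} : Set (RG K m))) := by
    exact Subgroup.relIndex_dvd_card _ _
  have e4 : A.relIndex (centralizer ({y} : Set (RG K m))) = 1 := by
    by_contra hne
    obtain ⟨p, hp, hpd⟩ := Nat.exists_prime_and_dvd hne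
    have h6 : p ∣ 2 * 3 := hpd.trans e1
    rcases hp.dvd_mul.1 h6 with h | h
    · exact hno p (Or.inl ((Nat.prime_dvd_prime_iff_eq hp Nat.prime_two).1 h)) (hpd.trans e3)
    · exact hno p (Or.inr ((Nat.prime_dvd_prime_iff_eq hp Nat.prime_three).1 h)) (hpd.trans e3)
  exact (Subgroup.relIndex_eq_one.1 e4) hz

theorem near_or (hm : 1 ≤ m) (hK : Fintype.card K = 3 ^ (2 * m + 1)) {r : ℕ} (hr : r.Prime) (hd : r ∣ Nat.card (RG K m)) :
    r = 2 ∨ Adj (RG K m) r 2 ∨ (r ∣ 3 ^ (2 * m + 1) - 3 ^ (m + 1) + 1 ∨ r ∣ 3 ^ (2 * m + 1) + 3 ^ (m + 1) + 1) := by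
  have hfin : Finite (RG K m) := inferInstance
  have : Fact r.Prime := ⟨hr⟩
  obtain ⟨x, hx⟩ := exists_prime_orderOf_dvd_card' r hd
  by_cases h2 : r = 2
  · exact Or.inl h2
  have hadj : (∃ g : (RG K m), orderOf g = 2 * r) → Adj (RG K m) r 2 := by
    rintro ⟨g, hg⟩
    exact adj_of_dvd hr Nat.prime_two h2 (Commute.refl g) (by rw [hg]; exact dvd_mul_left _ _)
      (by rw [hg]; exact dvd_mul_right _ _) (orderOf_pos g).ne' (orderOf_pos g).ne'
  have hodd : 3 ^ (2 * m + 1) % 8 = 3 := by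
    rw [pow_succ, pow_mul, Nat.mul_mod, Nat.pow_mod]
    norm_num
  have h2r : Nat.Coprime 2 r := (Nat.coprime_primes Nat.prime_two hr).2 (Ne.symm h2)
  rcases (S1159.result hm hK r).1 ⟨x, hx⟩ with h6 | h6 | h6 | h6 | h6 | h6
  · right; left
    apply hadj
    refine (S1159.result hm hK (2 * r)).2 (Or.inl ?_)
    exact h2r.mul_dvd_of_dvd_of_dvd (by norm_num) h6
  · right; left
    apply hadj
    have h3 : r = 3 := by
      have : r ∣ 3 * 3 := h6
      rcases hr.dvd_mul.1 this with h | h <;> exact (Nat.prime_dvd_prime_iff_eq hr Nat.prime_three).1 h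
    refine (S1159.result hm hK (2 * r)).2 (Or.inl ?_)
    rw [h3]
  · right; left
    apply hadj
    refine (S1159.result hm hK (2 * r)).2 (Or.inr (Or.inr (Or.inl ?_)))
    exact h2r.mul_dvd_of_dvd_of_dvd (by omega) h6
  · right; left
    apply hadj
    refine (S1159.result hm hK (2 * r)).2 (Or.inr (Or.inr (Or.inr (Or.inl ?_))))
    exact h2r.mul_dvd_of_dvd_of_dvd (by omega) h6
  · exact Or.inr (Or.inr (Or.inl h6))
  · exact Or.inr (Or.inr (Or.inr h6))

end ree

theorem ree_cyc {S : Type*} [Group S] (h : Lie.IsoRee S) {r : ℕ} (hr : r.Prime) (hd : r ∣ Nat.card S)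
    (hn : ¬ Near S r) : HasCyc S r := by
  obtain ⟨K, i1, i2, m, hm, hK, ⟨e⟩⟩ := h
  rw [near_congr e] at hn
  rw [Nat.card_congr e.toEquiv] at hd
  rcases near_or hm hK hr hd with h1 | h1 | h1
  · exact absurd (Or.inl h1) hn
  · exact absurd (Or.inr (Or.inl h1)) hn
  · exact (ree_cyc' hm hK hr h1).congr e.symm

theorem good2_ree {S : Type*} [Group S] (h : Lie.IsoRee S) : Good2 S :=
  fun r hr hd hn => (ree_cyc h hr hd hn).hasCC

end Cfsg.Agent.H94.RankOne
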